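import Cfsg.Agent.Lib.KnownB.Phan.Q3.Window

/-!
# A weak Phan system over the field with nine elements gives an image of the unitary group
-/

set_option autoImplicit false
set_option linter.unusedSectionVars false

open Matrix CfsgLib.Classical CfsgLib.SUPres

namespace CfsgLib.Phan

variable {F : Type*} [Field F] [Fintype F] {q : ℕ} {σ : F →+* F} (hσ : ∀ x, σ x = x ^ q) (hc : IsConjugation σ)

/-- The four coordinates of a window. -/
def winEmb4 {n : ℕ} (w : ℕ) (h : w + 4 ≤ n) : Fin 4 ↪ Fin n :=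
  ⟨fun i => ⟨w + i.val, by omega⟩, fun i j e => Fin.ext (by simpa using congrArg Fin.val e)⟩

theorem winEmb4_map {n : ℕ} (w : ℕ) (h : w + 4 ≤ n) :
    (Finset.univ : Finset (Fin 4)).map (winEmb4 w h) = win n w (w + 4) := by
  ext x
  rw [Finset.mem_map, mem_win]
  constructor
  · rintro ⟨i, -, rfl⟩
    show w ≤ w + i.val ∧ w + i.val < w + 4
    omega
  · intro hx
    exact ⟨⟨x.val - w, by omega⟩, Finset.mem_univ _, Fin.ext (show w + (x.val - w) = x.val by omega)⟩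

include hσ hc

/-- Pairs chosen so as to agree on common subgroups. -/
theorem family {G : Type*} [Group G] (hF : Fintype.card F = q ^ 2) (hq : 2 < q) {n : ℕ}
    (Ux Vx : ℕ → Subgroup G)
    (hstd : ∀ w, w + 1 < n → ∃ ψ : Cfsg.SU 3 F q →* G, PairSpec hσ ψ (Vx w) (Ux w) (Ux (w + 1)))
    (hcomm : ∀ a b, a + 2 ≤ b → b < n → ∀ x ∈ Ux a, ∀ y ∈ Ux b, x * y = y * x) :
    ∀ m, m + 1 ≤ n → ∃ φ : ℕ → (Cfsg.SU 3 F q →* G),
      (∀ w, w < m → PairSpec hσ (φ w) (Vx w) (Ux w) (Ux (w + 1))) ∧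
      ∀ w, w + 1 < m → ∀ y, φ (w + 1) (upp hσ y) = φ w (low hσ y) := by
  classical
  intro m
  induction m with
  | zero => exact fun _ => ⟨fun _ => 1, fun w h => absurd h (by omega), fun w h => absurd h (by omega)⟩
  | succ m ih =>
    intro hm
    obtain ⟨φ, hspec, hag⟩ := ih (by omega)
    obtain ⟨χ, hχ⟩ := hstd m (by omega)
    obtain ⟨χ', hχ', hagree⟩ : ∃ χ' : Cfsg.SU 3 F q →* G, PairSpec hσ χ' (Vx m) (Ux m) (Ux (m + 1)) ∧
        ∀ w, w + 1 = m → ∀ y, χ' (upp hσ y) = φ w (low hσ y) := by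
      cases m with
      | zero => exact ⟨χ, hχ, fun w h => absurd h (by omega)⟩
      | succ k =>
        obtain ⟨χ', hχ', h⟩ := adjust hσ hc hF hq (hspec k (by omega)) hχ (hcomm k (k + 2) le_rfl (by omega))
        exact ⟨χ', hχ', fun w hw => by obtain rfl : w = k := by omega
                                       exact h⟩
    refine ⟨Function.update φ m χ', fun w hw => ?_, fun w hw y => ?_⟩
    · by_cases hwm : w = m
      · subst hwm; rw [Function.update_self]; exact hχ'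
      · rw [Function.update_of_ne hwm]; exact hspec w (by omega)
    · rw [Function.update_of_ne (show w ≠ m by omega)]
      by_cases hwm : w + 1 = m
      · rw [hwm, Function.update_self]; exact hagree w hwm y
      · rw [Function.update_of_ne hwm]; exact hag w (by omega) y

omit hσ hc

/-- A weak Phan system over the field with nine elements gives an image of the unitary group. -/
theorem phan_three {G : Type*} [Group G] (hσ3 : ∀ x, σ x = x ^ 3) (hc : IsConjugation σ)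
    (hF : Fintype.card F = 3 ^ 2) (n : ℕ) (hn : 3 ≤ n)
    (U : Fin n → Subgroup G) (V : Fin n → Fin n → Subgroup G)
    (h1 : ∀ i j : Fin n, (i : ℕ) + 2 ≤ j → ∀ x ∈ U i, ∀ y ∈ U j, x * y = y * x)
    (h2 : ∀ i j : Fin n, (i : ℕ) + 1 = j → Cfsg.IsStandardUnitaryPair (V i j) (U i) (U j) F 3)
    (h4 : ∀ i j k : Fin n, (i : ℕ) + 1 = j → (j : ℕ) + 1 = k →
      ∃ g : ↥(Cfsg.SU 4 F 3) →* ↥(V i j ⊔ V j k), Function.Surjective g) :
    ∃ f : Cfsg.SU (n + 1) F 3 →* G, ∀ i j : Fin n, (i : ℕ) + 1 = j →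
      V i j ≤ f.range ∧ U i ≤ V i j ∧ U j ≤ V i j := by
  classical
  let Ux : ℕ → Subgroup G := fun i => if h : i < n then U ⟨i, h⟩ else ⊥
  let Vx : ℕ → Subgroup G := fun i => if h : i + 1 < n then V ⟨i, by omega⟩ ⟨i + 1, h⟩ else ⊥
  have hU : ∀ i (h : i < n), Ux i = U ⟨i, h⟩ := fun i h => dif_pos h
  have hV : ∀ i (h : i + 1 < n), Vx i = V ⟨i, by omega⟩ ⟨i + 1, h⟩ := fun i h => dif_pos h
  have hstd : ∀ w, w + 1 < n → ∃ ψ : Cfsg.SU 3 F 3 →* G, PairSpec hσ3 ψ (Vx w) (Ux w) (Ux (w + 1)) := fun w h => by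
    rw [hU w (by omega), hU (w + 1) h, hV w h]
    exact spec_of_standard hσ3 (h2 _ _ rfl)
  have hcomm : ∀ a b, a + 2 ≤ b → b < n → ∀ x ∈ Ux a, ∀ y ∈ Ux b, x * y = y * x := fun a b hab hb x hx y hy => by
    rw [hU a (by omega)] at hx
    rw [hU b hb] at hy
    exact h1 _ _ hab x hx y hy
  obtain ⟨φ, hspec, hag⟩ := family hσ3 hc hF (by norm_num) Ux Vx hstd hcomm (n - 1) (by omega)
  have hwin : ∀ w, w + 4 ≤ n + 1 → ∃ Φ : Cfsg.SU 4 F 3 →* G,
      (∀ x, Φ (emb hσ3 Q3.fA x) = φ w x) ∧ ∀ x, Φ (emb hσ3 Q3.fB x) = φ (w + 1) x := fun w h => by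
    obtain ⟨g, hg⟩ := h4 ⟨w, by omega⟩ ⟨w + 1, by omega⟩ ⟨w + 2, by omega⟩ rfl rfl
    refine Q3.window hF hσ3 hc (hspec w (by omega)) (hspec (w + 1) (by omega)) (hag w (by omega))
      (hcomm w (w + 2) le_rfl (by omega)) ((Subgroup.subtype _).comp g) ?_
    rw [MonoidHom.range_comp, MonoidHom.range_eq_top.2 hg, ← MonoidHom.range_eq_map, Subgroup.range_subtype,
      hV w (by omega), hV (w + 1) (by omega)]
    exact ⟨le_sup_left, le_sup_right⟩
  choose Φ4 hA hB using hwin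
  let θ : ∀ w, w + 4 ≤ n + 1 → fixS F 3 (win (n + 1) w (w + 4)) →* G := fun w h =>
    (Φ4 w h).comp ((embEquiv hσ3 (winEmb4 w h)).symm.toMonoidHom.comp
      (Subgroup.inclusion (le_of_eq (congrArg _ (winEmb4_map w h).symm))))
  have θ_eq : ∀ w (h : w + 4 ≤ n + 1) (x : fixS F 3 (win (n + 1) w (w + 4))) (A : Cfsg.SU 4 F 3),
      x.1 = emb hσ3 (winEmb4 w h) A → θ w h x = Φ4 w h A := by
    intro w h x A e
    show Φ4 w h ((embEquiv hσ3 (winEmb4 w h)).symm _) = Φ4 w h A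
    rw [(embEquiv hσ3 (winEmb4 w h)).symm_apply_eq.2 (Subtype.ext (e.trans (embEquiv_val hσ3 _ A).symm))]
  have eA : ∀ w (h : w + 4 ≤ n + 1), Q3.fA.trans (winEmb4 w h) = winEmb w (by omega) := fun w h => by
    ext i; rfl
  have eB : ∀ w (h : w + 4 ≤ n + 1), Q3.fB.trans (winEmb4 w h) = winEmb (w + 1) (by omega) := fun w h => by
    ext i
    show w + (i.val + 1) = w + 1 + i.val
    omega
  -- the value on three consecutive coordinates
  have three : ∀ w (h : w + 4 ≤ n + 1) (v : ℕ) (hv : v + 3 ≤ n + 1), v = w ∨ v = w + 1 → ∀ (A : Cfsg.SU 3 F 3)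
      (x : fixS F 3 (win (n + 1) w (w + 4))), x.1 = emb hσ3 (winEmb v hv) A → θ w h x = φ v A := by
    intro w h v hv hvw A x e
    rcases hvw with rfl | rfl
    · rw [θ_eq v h x (emb hσ3 Q3.fA A) (by rw [e, emb_trans, eA]), hA]
    · rw [θ_eq w h x (emb hσ3 Q3.fB A) (by rw [e, emb_trans, eB]), hB]
  have pick : ∀ (v : ℕ) (hv : v + 3 ≤ n + 1) (S : Finset (Fin (n + 1))), S ⊆ win (n + 1) v (v + 3) →
      ∀ x ∈ fixS F 3 S, ∃ A, x = emb hσ3 (winEmb v hv) A := fun v hv S hS x hx => by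
    obtain ⟨A, e⟩ := emb_surj hσ3 (winEmb v hv) (g := x) (fixS_mono (by rw [winEmb_map]; exact hS) hx)
    exact ⟨A, e.symm⟩
  have lowsub : ∀ v (hv : v + 3 ≤ n + 1), ∀ x ∈ fixS F 3 (win (n + 1) v (v + 2)),
      ∃ y, x = emb hσ3 (winEmb v hv) (upp hσ3 y) := fun v hv x hx => by
    obtain ⟨y, rfl⟩ := emb_surj hσ3 (f01.trans (winEmb v hv)) (g := x) (fixS_mono (fun a ha => by
      rw [mem_win] at ha
      refine Finset.mem_map.2 ⟨⟨a.val - v, by omega⟩, Finset.mem_univ _, Fin.ext ?_⟩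
      show v + (a.val - v) = a.val
      omega) hx)
    exact ⟨y, (emb_trans hσ3 _ _ y).symm⟩
  have highsub : ∀ v (hv : v + 3 ≤ n + 1), ∀ x ∈ fixS F 3 (win (n + 1) (v + 1) (v + 3)),
      ∃ y, x = emb hσ3 (winEmb v hv) (low hσ3 y) := fun v hv x hx => by
    obtain ⟨y, rfl⟩ := emb_surj hσ3 (f12.trans (winEmb v hv)) (g := x) (fixS_mono (fun a ha => by
      rw [mem_win] at ha
      refine Finset.mem_map.2 ⟨⟨a.val - (v + 1), by omega⟩, Finset.mem_univ _, Fin.ext ?_⟩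
      show v + (a.val - (v + 1) + 1) = a.val
      omega) hx)
    exact ⟨y, (emb_trans hσ3 _ _ y).symm⟩
  by_cases hn4 : n + 1 < 4
  · omega
  obtain ⟨Φ, hΦ⟩ := chain4_pairs hσ3 hc hF (by norm_num) (by omega) θ Ux
    (fun w h x h1' h2' hx => by
      obtain ⟨A, e⟩ := pick (w + 1) (by omega) _ (win_mono le_rfl (by omega)) x hx
      rw [three w (by omega) (w + 1) (by omega) (Or.inr rfl) A ⟨x, h1'⟩ e,
        three (w + 1) (by omega) (w + 1) (by omega) (Or.inl rfl) A ⟨x, h2'⟩ e])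
    (fun w h s hs1 hs2 x hx => by
      rcases (show s = w ∨ s = w + 1 ∨ s = w + 2 by omega) with rfl | rfl | rfl
      · obtain ⟨y, e⟩ := lowsub s (by omega) x.1 hx
        rw [three s h s (by omega) (Or.inl rfl) _ x e, ← (hspec s (by omega)).upp_eq]
        exact ⟨y, rfl⟩
      · obtain ⟨y, e⟩ := lowsub (w + 1) (by omega) x.1 hx
        rw [three w h (w + 1) (by omega) (Or.inr rfl) _ x e, ← (hspec (w + 1) (by omega)).upp_eq]
        exact ⟨y, rfl⟩
      · obtain ⟨y, e⟩ := highsub (w + 1) (by omega) x.1 hx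
        rw [three w h (w + 1) (by omega) (Or.inr rfl) _ x e, ← (hspec (w + 1) (by omega)).low_eq]
        exact ⟨y, rfl⟩)
    (fun a b hab hb => hcomm a b hab (by omega))
  refine ⟨Φ, fun i j hij => ?_⟩
  obtain ⟨w, hw⟩ := i
  obtain ⟨v, hv⟩ := j
  obtain rfl : w + 1 = v := hij
  have P := hspec w (by omega)
  rw [hV w hv, hU w hw, hU (w + 1) hv] at P
  refine ⟨?_, ?_, ?_⟩
  · rw [← P.range]
    rintro _ ⟨A, rfl⟩
    obtain ⟨u, hu, huw⟩ : ∃ u, u + 4 ≤ n + 1 ∧ (w = u ∨ w = u + 1) := by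
      by_cases h : w + 4 ≤ n + 1
      · exact ⟨w, h, Or.inl rfl⟩
      · exact ⟨w - 1, by omega, Or.inr (by omega)⟩
    have hmem : emb hσ3 (winEmb w (show w + 3 ≤ n + 1 by omega)) A ∈ fixS F 3 (win (n + 1) u (u + 4)) :=
      fixS_mono (by rw [winEmb_map]; exact win_mono (by omega) (by omega)) (emb_mem hσ3 _ A)
    exact ⟨_, (hΦ u hu ⟨_, hmem⟩).trans (three u hu w (by omega) huw A _ rfl)⟩
  · rw [← P.range, ← P.upp_eq]
    rintro _ ⟨y, rfl⟩
    exact ⟨_, rfl⟩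
  · rw [← P.range, ← P.low_eq]
    rintro _ ⟨y, rfl⟩
    exact ⟨_, rfl⟩

end CfsgLib.Phan
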