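import Cfsg.Agent.Lib.KnownB.Phan.Q3.Lifts

/-!
# Diagonal twists and torus relations
-/

set_option autoImplicit false
set_option linter.unusedSectionVars false

open Matrix CfsgLib.Classical CfsgLib.SUPres

namespace CfsgLib.Phan.Q3

variable {F : Type*} [Field F] [Fintype F] {q : ℕ} {σ : F →+* F}

/-- A diagonal conjugation combined with a field automorphism. -/
theorem exists_twist_vec {n : ℕ} (hσ : ∀ x, σ x = x ^ q) (τ : F ≃+* F) (e : Fin n → F)
    (he : ∀ i, e i * σ (e i) = 1) (hc : IsConjugation σ) :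
    ∃ Γ : Cfsg.SU n F q →* Cfsg.SU n F q, Function.Injective Γ ∧
      ∀ g i j, (Γ g).1.1 i j = e i * τ (g.1.1 i j) * σ (e j) := by
  classical
  let e' : Fin n → F := fun i => σ (e i)
  let Ef : Matrix (Fin n) (Fin n) F → Matrix (Fin n) (Fin n) F :=
    fun M => diagonal e * M.map τ * diagonal e'
  have h1 : diagonal e' * diagonal e = (1 : Matrix (Fin n) (Fin n) F) := by
    rw [diagonal_mul_diagonal, ← diagonal_one]
    congr 1
    funext i
    rw [mul_comm]
    exact he i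
  have h2 : diagonal e * diagonal e' = (1 : Matrix (Fin n) (Fin n) F) := by
    rw [diagonal_mul_diagonal, ← diagonal_one]
    congr 1
    funext i
    exact he i
  have hmul : ∀ M N, Ef (M * N) = Ef M * Ef N := fun M N => by
    simp only [Ef, Matrix.map_mul, Matrix.mul_assoc]
    rw [← Matrix.mul_assoc (diagonal e') (diagonal e), h1, Matrix.one_mul]
  have hdet : ∀ g : Cfsg.SU n F q, (Ef g.1.1).det = 1 := fun g => by
    simp only [Ef]
    rw [det_mul, det_mul, det_diagonal, det_diagonal, mul_right_comm, ← Finset.prod_mul_distrib,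
      Finset.prod_congr rfl fun i _ => he i, Finset.prod_const_one, one_mul,
      show g.1.1.map τ = τ.toRingHom.mapMatrix g.1.1 from rfl, ← RingHom.map_det, g.1.2, map_one]
  have hτσ : ∀ x, τ (σ x) = σ (τ x) := fun x => by rw [hσ, hσ, map_pow]
  have hee' : (fun i => σ (e' i)) = e := funext fun i => hc.invol (e i)
  have hmem : ∀ g : Cfsg.SU n F q, (⟨Ef g.1.1, hdet g⟩ : SpecialLinearGroup (Fin n) F) ∈ Cfsg.SU n F q := fun g => by
    refine (mem_SU_iff_matrix hσ _).2 ?_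
    have hg := (mem_SU_iff_matrix hσ g.1).1 g.2
    have h3 : ((g.1.1.map τ).map σ)ᵀ * g.1.1.map τ = 1 := by
      rw [show (g.1.1.map τ).map σ = (g.1.1.map σ).map τ from Matrix.ext fun a b => (hτσ _).symm, ← transpose_map,
        ← Matrix.map_mul, hg, Matrix.map_one _ (map_zero τ) (map_one τ)]
    show ((Ef g.1.1).map σ)ᵀ * Ef g.1.1 = 1
    simp only [Ef]
    rw [Matrix.map_mul, Matrix.map_mul, diagonal_map (map_zero σ), diagonal_map (map_zero σ), transpose_mul, transpose_mul,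
      diagonal_transpose, diagonal_transpose, hee', show (fun i => σ (e i)) = e' from rfl,
      show diagonal e * (((g.1.1.map τ).map σ)ᵀ * diagonal e') * (diagonal e * g.1.1.map τ * diagonal e') =
        diagonal e * (((g.1.1.map τ).map σ)ᵀ * (diagonal e' * diagonal e) * g.1.1.map τ) * diagonal e' by
        simp only [Matrix.mul_assoc],
      h1, Matrix.mul_one, h3, Matrix.mul_one, h2]
  let Γ : Cfsg.SU n F q →* Cfsg.SU n F q := MonoidHom.mk' (fun g => ⟨⟨Ef g.1.1, hdet g⟩, hmem g⟩)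
    fun a b => Subtype.ext (Subtype.ext (hmul a.1.1 b.1.1))
  have hent : ∀ g i j, (Γ g).1.1 i j = e i * τ (g.1.1 i j) * σ (e j) := fun g i j => by
    show (diagonal e * g.1.1.map τ * diagonal e') i j = _
    rw [mul_diagonal, diagonal_mul]
    rfl
  refine ⟨Γ, fun a b h => Subtype.ext (Subtype.ext (Matrix.ext fun i j => τ.injective ?_)), hent⟩
  have h' := congrArg (fun x : Cfsg.SU n F q => σ (e i) * x.1.1 i j * e j) h
  simp only [hent] at h'
  linear_combination h' - (τ (a.1.1 i j) - τ (b.1.1 i j)) * he j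
    - ((τ (a.1.1 i j) - τ (b.1.1 i j)) * σ (e j) * e j) * he i

variable (hF : Fintype.card F = 3 ^ 2)
include hF

/-- An automorphism of the field with nine elements is determined by a square root of minus one. -/
theorem field_aut_eq (hσ : ∀ x, σ x = x ^ 3) (hc : IsConjugation σ) {θ : F} (hθ : θ * θ = -1) {τ τ' : F ≃+* F}
    (h : τ θ = τ' θ) : τ = τ' := by
  have h2 := two_ne hF
  have hσθ : σ θ = -θ := by rw [hσ]; linear_combination θ * hθ
  have fixed : ∀ y, σ y = y → τ y = τ' y := fun y hy => by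
    rw [hσ] at hy
    rcases mul_eq_zero.1 (show y * ((y - 1) * (y + 1)) = 0 by linear_combination hy) with e | e
    · simp [e]
    · rcases mul_eq_zero.1 e with e | e
      · simp [sub_eq_zero.1 e]
      · simp [eq_neg_of_add_eq_zero_left e]
  refine RingEquiv.ext fun x => ?_
  have hθ0 : θ ≠ 0 := fun e => by simp [e] at hθ
  set a := (x + σ x) / 2 with ha
  set b := (x - σ x) / (2 * θ) with hb
  have hfa : σ a = a := by
    rw [ha, map_div₀, map_add, hc.invol, map_ofNat, add_comm]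
  have hfb : σ b = b := by
    rw [hb, map_div₀, map_sub, hc.invol, map_mul, map_ofNat, hσθ]
    field_simp
    ring
  have hx : x = a + b * θ := by rw [ha, hb]; field_simp; ring
  rw [hx, map_add, map_add, map_mul, map_mul, fixed a hfa, fixed b hfb, h]

variable (hσ : ∀ x, σ x = x ^ 3) (hc : IsConjugation σ)
include hσ hc

theorem conj_upp (Q : Quat F) (y : Cfsg.SU 2 F 3) :
    upp hσ Q.m * low hσ y * (upp hσ Q.m)⁻¹ = low hσ (Q.i * y * Q.i⁻¹) := by
  obtain ⟨z, hz⟩ : ∃ z, z = Q.i * y * Q.i⁻¹ := ⟨_, rfl⟩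
  rw [← hz]
  have e : z * Q.i = Q.i * y := by rw [hz, inv_mul_cancel_right]
  have em : (z * Q.i).1.1 = (Q.i * y).1.1 := congrArg (fun x : Cfsg.SU 2 F 3 => x.1.1) e
  change z.1.1 * Q.i.1.1 = Q.i.1.1 * y.1.1 at em
  obtain ⟨i1, i2⟩ := su2_row hσ Q.i
  rw [Q.hi01, map_zero, neg_zero] at i2
  have hi0 : Q.i.1.1 0 0 ≠ 0 := fun h => Q.hi (by rw [h, i1, h, map_zero])
  have hsq := congrArg (fun x : Cfsg.SU 2 F 3 => x.1.1 0 0) Q.hii
  change (Q.i.1.1 * Q.i.1.1) 0 0 = Q.m.1.1 0 0 at hsq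
  simp [Matrix.mul_apply, Fin.sum_univ_two, Q.hi01, Q.hm] at hsq
  have hi11 : Q.i.1.1 1 1 = -Q.i.1.1 0 0 := by
    rw [i1, hσ]
    linear_combination Q.i.1.1 0 0 * hsq
  have e00 := congrFun (congrFun em 0) 0
  have e01 := congrFun (congrFun em 0) 1
  have e10 := congrFun (congrFun em 1) 0
  have e11 := congrFun (congrFun em 1) 1
  simp [Matrix.mul_apply, Fin.sum_univ_two, Q.hi01, i2, hi11] at e00 e01 e10 e11
  have z00 : z.1.1 0 0 = y.1.1 0 0 := mul_right_cancel₀ hi0 (by linear_combination e00)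
  have z01 : z.1.1 0 1 = -y.1.1 0 1 := mul_right_cancel₀ hi0 (by linear_combination -e01)
  have z10 : z.1.1 1 0 = -y.1.1 1 0 := mul_right_cancel₀ hi0 (by linear_combination e10)
  have z11 : z.1.1 1 1 = y.1.1 1 1 := mul_right_cancel₀ hi0 (by linear_combination e11)
  rw [mul_inv_eq_iff_eq_mul]
  refine Subtype.ext (Subtype.ext ?_)
  show (upp hσ Q.m).1.1 * (low hσ y).1.1 = (low hσ z).1.1 * (upp hσ Q.m).1.1
  rw [upp_entries, low_entries, low_entries, z00, z01, z10, z11, Q.hm]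
  ext a b
  fin_cases a <;> fin_cases b <;> simp [Matrix.mul_apply, Fin.sum_univ_three]

theorem conj_low (Q : Quat F) (y : Cfsg.SU 2 F 3) :
    low hσ Q.m * upp hσ y * (low hσ Q.m)⁻¹ = upp hσ (Q.i * y * Q.i⁻¹) := by
  obtain ⟨z, hz⟩ : ∃ z, z = Q.i * y * Q.i⁻¹ := ⟨_, rfl⟩
  rw [← hz]
  have e : z * Q.i = Q.i * y := by rw [hz, inv_mul_cancel_right]
  have em : (z * Q.i).1.1 = (Q.i * y).1.1 := congrArg (fun x : Cfsg.SU 2 F 3 => x.1.1) e
  change z.1.1 * Q.i.1.1 = Q.i.1.1 * y.1.1 at em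
  obtain ⟨i1, i2⟩ := su2_row hσ Q.i
  rw [Q.hi01, map_zero, neg_zero] at i2
  have hi0 : Q.i.1.1 0 0 ≠ 0 := fun h => Q.hi (by rw [h, i1, h, map_zero])
  have hsq := congrArg (fun x : Cfsg.SU 2 F 3 => x.1.1 0 0) Q.hii
  change (Q.i.1.1 * Q.i.1.1) 0 0 = Q.m.1.1 0 0 at hsq
  simp [Matrix.mul_apply, Fin.sum_univ_two, Q.hi01, Q.hm] at hsq
  have hi11 : Q.i.1.1 1 1 = -Q.i.1.1 0 0 := by
    rw [i1, hσ]
    linear_combination Q.i.1.1 0 0 * hsq
  have e00 := congrFun (congrFun em 0) 0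
  have e01 := congrFun (congrFun em 0) 1
  have e10 := congrFun (congrFun em 1) 0
  have e11 := congrFun (congrFun em 1) 1
  simp [Matrix.mul_apply, Fin.sum_univ_two, Q.hi01, i2, hi11] at e00 e01 e10 e11
  have z00 : z.1.1 0 0 = y.1.1 0 0 := mul_right_cancel₀ hi0 (by linear_combination e00)
  have z01 : z.1.1 0 1 = -y.1.1 0 1 := mul_right_cancel₀ hi0 (by linear_combination -e01)
  have z10 : z.1.1 1 0 = -y.1.1 1 0 := mul_right_cancel₀ hi0 (by linear_combination e10)
  have z11 : z.1.1 1 1 = y.1.1 1 1 := mul_right_cancel₀ hi0 (by linear_combination e11)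
  rw [mul_inv_eq_iff_eq_mul]
  refine Subtype.ext (Subtype.ext ?_)
  show (low hσ Q.m).1.1 * (upp hσ y).1.1 = (upp hσ z).1.1 * (low hσ Q.m).1.1
  rw [upp_entries, low_entries, upp_entries, z00, z01, z10, z11, Q.hm]
  ext a b
  fin_cases a <;> fin_cases b <;> simp [Matrix.mul_apply, Fin.sum_univ_three]

end CfsgLib.Phan.Q3
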