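import Cfsg.Agent.Lib.KnownB.Phan.Q3.Frame
import Cfsg.Agent.Lib.KnownB.Phan.Q3.Twist
import Cfsg.Agent.Lib.KnownB.Phan.Chain4
import Cfsg.Agent.Lib.KnownB.Phan.Main

/-!
# Two adjusted standard pairs inside an image of the four-dimensional unitary group come from one homomorphism
-/

set_option autoImplicit false
set_option linter.unusedSectionVars false

open Matrix CfsgLib.Classical CfsgLib.SUPres

namespace CfsgLib.Phan.Q3

variable {F : Type*} [Field F] [Fintype F] {σ : F →+* F} {G : Type*} [Group G]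

/-- The first three of four coordinates. -/
abbrev fA : Fin 3 ↪ Fin 4 := ⟨Fin.castSucc, Fin.castSucc_injective 3⟩

/-- The last three of four coordinates. -/
abbrev fB : Fin 3 ↪ Fin 4 := ⟨Fin.succ, Fin.succ_injective 3⟩

variable (hF : Fintype.card F = 3 ^ 2) (hσ : ∀ x, σ x = x ^ 3) (hc : IsConjugation σ)
include hF hσ hc

/-- A coordinate subgroup missing a coordinate maps injectively. -/
theorem emb_inj_image {g : Cfsg.SU 4 F 3 →* G} (hg : g.ker ≤ Subgroup.center (Cfsg.SU 4 F 3)) {m : ℕ}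
    (f : Fin m ↪ Fin 4) {k : Fin 4} (hk : ∀ i, k ≠ f i) : Function.Injective (g.comp (emb (q := 3) hσ f)) := by
  refine (injective_iff_map_eq_one _).2 fun x hx => ?_
  obtain ⟨c, e, -, -⟩ := central_scalar hF hσ hc (hg hx)
  have h1 := emb_off hσ f x (a := k) (b := k) (Or.inl hk)
  rw [e] at h1
  simp at h1
  have : emb hσ f x = 1 := Subtype.ext (Subtype.ext (by rw [e, h1, one_smul]; rfl))
  exact emb_injective hσ f (this.trans (map_one _).symm)

theorem emb_range {m : ℕ} (f : Fin m ↪ Fin 4) :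
    (emb (q := 3) hσ f).range = fixS F 3 (Finset.univ.map f) := by
  refine le_antisymm ?_ fun x hx => ?_
  · rintro _ ⟨y, rfl⟩; exact emb_mem hσ f y
  · obtain ⟨A, e⟩ := emb_surj hσ f hx; exact ⟨A, e⟩

/-- Homomorphisms from the three-dimensional group agreeing on both blocks are equal. -/
theorem hom_eq {f g : Cfsg.SU 3 F 3 →* G} (h1 : ∀ y, f (upp hσ y) = g (upp hσ y))
    (h2 : ∀ y, f (low hσ y) = g (low hσ y)) : f = g := by
  classical
  let H : Subgroup (Cfsg.SU 4 F 3) := (f.eqLocus g).map (emb hσ fA)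
  have sub : ∀ (k : Fin 2 ↪ Fin 3), (∀ y, f (emb hσ k y) = g (emb hσ k y)) →
      fixS F 3 (Finset.univ.map (k.trans fA)) ≤ H := fun k hk x hx => by
    obtain ⟨y, rfl⟩ := emb_surj hσ (k.trans fA) hx
    exact ⟨emb hσ k y, hk y, emb_trans hσ k fA y⟩
  have hA : fixS F 3 ({0, 1} : Finset (Fin 4)) ≤ H :=
    le_trans (le_of_eq (congrArg _ (by decide))) (sub f01 h1)
  have hB : fixS F 3 ({1, 2} : Finset (Fin 4)) ≤ H :=
    le_trans (le_of_eq (congrArg _ (by decide))) (sub f12 h2)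
  have hall : fixS F 3 ({0, 1, 2} : Finset (Fin 4)) ≤ H :=
    genThree hσ hc hF (by norm_num) le_rfl (by decide) (by decide) (by decide) hA
      (pair_trans hσ hc (by decide) (by decide) (by decide) hA hB) hB
  refine MonoidHom.ext fun x => ?_
  obtain ⟨y, hy, e⟩ := hall (show emb hσ fA x ∈ _ from fixS_mono (by decide) (emb_mem hσ fA x))
  obtain rfl := emb_injective hσ fA e
  exact hy

/-- The torus of the second block acts on the first one. -/
theorem torus_upp {d z : Cfsg.SU 2 F 3} (hd : d.1.1 0 1 = 0) :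
    ∃ z' : Cfsg.SU 2 F 3, low hσ d * upp hσ z = upp hσ z' * low hσ d ∧ z'.1.1 0 0 = z.1.1 0 0 ∧
      z'.1.1 0 1 = σ (d.1.1 0 0) * z.1.1 0 1 := by
  obtain ⟨d1, d2⟩ := su2_row hσ d
  rw [hd, map_zero, neg_zero] at d2
  have hu : d.1.1 0 0 * σ (d.1.1 0 0) = 1 := by
    have h := d.1.2
    rw [det_fin_two, hd, d1] at h
    linear_combination h
  obtain ⟨z1, z2⟩ := su2_row hσ z
  have hn := z.1.2
  rw [det_fin_two, z1, z2] at hn
  obtain ⟨z', a, b⟩ := su2_mk (q := 3) hσ hc (a := z.1.1 0 0) (b := σ (d.1.1 0 0) * z.1.1 0 1) (by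
    rw [map_mul, hc.invol]
    linear_combination hn + (z.1.1 0 1 * σ (z.1.1 0 1)) * hu)
  refine ⟨z', ?_, a, b⟩
  obtain ⟨t1, t2⟩ := su2_row hσ z'
  rw [a] at t1
  rw [b, map_mul, hc.invol] at t2
  refine Subtype.ext (Subtype.ext ?_)
  show (low hσ d).1.1 * (upp hσ z).1.1 = (upp hσ z').1.1 * (low hσ d).1.1
  rw [low_entries, upp_entries, upp_entries]
  ext r s
  fin_cases r <;> fin_cases s <;>
    simp [Matrix.mul_apply, Fin.sum_univ_three, hd, d1, d2, z1, z2, a, b, t1, t2] <;>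
    first | ring1 | linear_combination (-(z.1.1 0 1)) * hu | linear_combination (z.1.1 0 1) * hu

variable {ψ : Cfsg.SU 3 F 3 →* G} {V A B : Subgroup G}

/-- Neighbouring adjustments have the same field automorphism. -/
theorem torus_tau (Q : Quat F) {ψ4 : Cfsg.SU 3 F 3 →* G} (hinj : Function.Injective ψ4) {γ δ : Cfsg.SU 2 F 3 → Cfsg.SU 2 F 3}
    (hγ : ∀ y, ψ4 (upp hσ (γ y)) = ψ (upp hσ y)) (hδ : ∀ y, ψ4 (low hσ (δ y)) = ψ (low hσ y)) {τ τ' : F ≃+* F} {d : F}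
    (hd : d ≠ 0) (fγ : ∀ y, (γ y).1.1 0 1 = d * τ (y.1.1 0 1)) (fδ : ∀ y, (δ y).1.1 0 0 = τ' (y.1.1 0 0))
    (dδ : (δ Q.i).1.1 0 1 = 0) : τ = τ' := by
  obtain ⟨z, hrel, -, hz⟩ := torus_upp hF hσ hc (z := Q.j) Q.hi01
  have h := congrArg ψ hrel
  rw [map_mul, map_mul, ← hδ, ← hγ, ← hγ, ← map_mul, ← map_mul] at h
  have e := congrFun (congrFun (congrArg (fun x : Cfsg.SU 3 F 3 => x.1.1) (hinj h)) 0) 1
  change ((low hσ (δ Q.i)).1.1 * (upp hσ (γ Q.j)).1.1) 0 1 =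
    ((upp hσ (γ z)).1.1 * (low hσ (δ Q.i)).1.1) 0 1 at e
  rw [low_entries, upp_entries, upp_entries] at e
  simp [Matrix.mul_apply, Fin.sum_univ_three, fγ, fδ, hz, Q.hj01] at e
  obtain ⟨i1, i2⟩ := su2_row hσ Q.i
  rw [Q.hi01, map_zero, neg_zero] at i2
  have hsq := congrArg (fun x : Cfsg.SU 2 F 3 => x.1.1 0 0) Q.hii
  change (Q.i.1.1 * Q.i.1.1) 0 0 = Q.m.1.1 0 0 at hsq
  simp [Matrix.mul_apply, Fin.sum_univ_two, Q.hi01, Q.hm] at hsq
  have hσθ : σ (Q.i.1.1 0 0) = -Q.i.1.1 0 0 := by rw [hσ]; linear_combination Q.i.1.1 0 0 * hsq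
  rw [hσθ, map_neg] at e
  have hτ2 : τ (Q.i.1.1 0 0) * τ (Q.i.1.1 0 0) = -1 := by rw [← map_mul, hsq, map_neg, map_one]
  refine field_aut_eq hF hσ hc hsq ?_
  have h0 : τ (Q.i.1.1 0 0) ≠ 0 := fun h => by rw [h, mul_zero] at hτ2; exact one_ne_zero (neg_eq_zero.1 hτ2.symm)
  refine mul_left_cancel₀ h0 (mul_left_cancel₀ hd ?_)
  linear_combination d * hτ2 - e

/-- Two adjusted pairs come from one homomorphism of the four-dimensional group. -/
theorem window {χ : Cfsg.SU 3 F 3 →* G} {W C : Subgroup G} (P : PairSpec hσ ψ V A B) (R : PairSpec hσ χ W B C)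
    (hag : ∀ y, χ (upp hσ y) = ψ (low hσ y)) (hcomm : ∀ x ∈ A, ∀ y ∈ C, x * y = y * x)
    (g : Cfsg.SU 4 F 3 →* G) (hVW : V ≤ g.range ∧ W ≤ g.range) :
    ∃ Φ : Cfsg.SU 4 F 3 →* G, (∀ x, Φ (emb hσ fA x) = ψ x) ∧ ∀ x, Φ (emb hσ fB x) = χ x := by
  classical
  obtain ⟨Q⟩ := exists_Quat hF hσ hc
  set ιa := ψ.comp (upp hσ) with hιa
  set ιb := ψ.comp (low hσ) with hιb
  set ιc := χ.comp (low hσ) with hιc
  have ia : Function.Injective ιa := upp_injective hσ P hF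
  have ib : Function.Injective ιb := low_injective hσ P hF
  have ic : Function.Injective ιc := low_injective hσ R hF
  have hψ : ψ.range ≤ g.range := P.range ▸ hVW.1
  have hχ : χ.range ≤ g.range := R.range ▸ hVW.2
  have ra : ιa.range ≤ g.range := le_trans (by rintro _ ⟨y, rfl⟩; exact ⟨_, rfl⟩) hψ
  have rb : ιb.range ≤ g.range := le_trans (by rintro _ ⟨y, rfl⟩; exact ⟨_, rfl⟩) hψ
  have rc : ιc.range ≤ g.range := le_trans (by rintro _ ⟨y, rfl⟩; exact ⟨_, rfl⟩) hχ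
  have hker : g.ker ≤ Subgroup.center (Cfsg.SU 4 F 3) := by
    obtain ⟨x, hx⟩ := ra ⟨Q.j, rfl⟩
    refine ker_central hF hσ hc g (x := x) fun e => ?_
    have h := congrArg (fun y : Cfsg.SU 2 F 3 => y.1.1 0 1) (ia ((hx.symm.trans e).trans (map_one _).symm))
    simp [Q.hj01] at h
  have hac : ∀ x y, ιa x * ιc y = ιc y * ιa x := fun x y =>
    hcomm _ (P.upp_eq ▸ ⟨x, rfl⟩) _ (R.low_eq ▸ ⟨y, rfl⟩)
  obtain ⟨g', -, hker', hA, hB, hC⟩ := frame hF hσ hc g hker Q ra rb rc ia ib ic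
    (fun y => by
      show ψ (upp hσ Q.m) * ψ (low hσ y) * (ψ (upp hσ Q.m))⁻¹ = ψ (low hσ _)
      rw [← map_inv, ← map_mul, ← map_mul, conj_upp hF hσ hc])
    (fun y => by
      show ψ (low hσ Q.m) * ψ (upp hσ y) * (ψ (low hσ Q.m))⁻¹ = ψ (upp hσ _)
      rw [← map_inv, ← map_mul, ← map_mul, conj_low hF hσ hc])
    hac
  -- the blocks
  have adj : ∀ (ι : Cfsg.SU 2 F 3 →* G), Function.Injective ι → ∀ (k : Fin 2 ↪ Fin 4) (l : Fin 4), (∀ i, l ≠ k i) →
      (fixS F 3 (Finset.univ.map k)).map g' = ι.range → ∃ γ : Cfsg.SU 2 F 3 ≃* Cfsg.SU 2 F 3, ∀ y, g' (emb hσ k (γ y)) = ι y := by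
    intro ι hι k l hl hk
    have hr : (g'.comp (emb (q := 3) hσ k)).range = ι.range := by
      rw [MonoidHom.range_comp, emb_range hF hσ hc, hk]
    let e1 : Cfsg.SU 2 F 3 ≃* ι.range :=
      (MonoidHom.ofInjective (emb_inj_image hF hσ hc hker' k hl)).trans (MulEquiv.subgroupCongr hr)
    let e2 : Cfsg.SU 2 F 3 ≃* ι.range := MonoidHom.ofInjective hι
    exact ⟨e2.trans e1.symm, fun y => congrArg Subtype.val (e1.apply_symm_apply (e2 y))⟩
  obtain ⟨γa, ha⟩ := adj ιa ia (f01.trans fA) 3 (by decide) (by rw [← hA]; congr 1)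
  obtain ⟨γb, hb⟩ := adj ιb ib (f12.trans fA) 3 (by decide) (by rw [← hB]; congr 1)
  obtain ⟨γc, hc4⟩ := adj ιc ic (f12.trans fB) 0 (by decide) (by rw [← hC]; congr 1)
  have hAB : f01.trans fB = f12.trans fA := by ext i; fin_cases i <;> rfl
  set ψ4 := g'.comp (emb (q := 3) hσ fA) with hψ4
  set χ4 := g'.comp (emb (q := 3) hσ fB) with hχ4
  have iψ : Function.Injective ψ4 := emb_inj_image hF hσ hc hker' fA (k := 3) (by decide)
  have iχ : Function.Injective χ4 := emb_inj_image hF hσ hc hker' fB (k := 0) (by decide)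
  have a4 : ∀ y, ψ4 (upp hσ (γa y)) = ψ (upp hσ y) := fun y =>
    (congrArg g' (emb_trans hσ f01 fA (γa y))).trans (ha y)
  have b4 : ∀ y, ψ4 (low hσ (γb y)) = ψ (low hσ y) := fun y =>
    (congrArg g' (emb_trans hσ f12 fA (γb y))).trans (hb y)
  have b4' : ∀ y, χ4 (upp hσ (γb y)) = χ (upp hσ y) := fun y =>
    ((congrArg g' ((emb_trans hσ f01 fB (γb y)).trans (by rw [hAB]))).trans (hb y)).trans (hag y).symm
  have c4 : ∀ y, χ4 (low hσ (γc y)) = χ (low hσ y) := fun y =>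
    (congrArg g' (emb_trans hσ f12 fB (γc y))).trans (hc4 y)
  have P4 : PairSpec hσ ψ4 ψ4.range A B := by
    refine ⟨rfl, ?_, ?_, ?_⟩
    · rw [← P.upp_eq]
      refine le_antisymm ?_ ?_
      · rintro _ ⟨y, rfl⟩; obtain ⟨y, rfl⟩ := γa.surjective y; exact ⟨y, (a4 y).symm⟩
      · rintro _ ⟨y, rfl⟩; exact ⟨γa y, a4 y⟩
    · rw [← P.low_eq]
      refine le_antisymm ?_ ?_
      · rintro _ ⟨y, rfl⟩; obtain ⟨y, rfl⟩ := γb.surjective y; exact ⟨y, (b4 y).symm⟩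
      · rintro _ ⟨y, rfl⟩; exact ⟨γb y, b4 y⟩
    · rw [(MonoidHom.ker_eq_bot_iff _).2 iψ]; exact bot_le
  have R4 : PairSpec hσ χ4 χ4.range B C := by
    refine ⟨rfl, ?_, ?_, ?_⟩
    · rw [← R.upp_eq]
      refine le_antisymm ?_ ?_
      · rintro _ ⟨y, rfl⟩; obtain ⟨y, rfl⟩ := γb.surjective y; exact ⟨y, (b4' y).symm⟩
      · rintro _ ⟨y, rfl⟩; exact ⟨γb y, b4' y⟩
    · rw [← R.low_eq]
      refine le_antisymm ?_ ?_
      · rintro _ ⟨y, rfl⟩; obtain ⟨y, rfl⟩ := γc.surjective y; exact ⟨y, (c4 y).symm⟩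
      · rintro _ ⟨y, rfl⟩; exact ⟨γc y, c4 y⟩
    · rw [(MonoidHom.ker_eq_bot_iff _).2 iχ]; exact bot_le
  have Db : ∀ y : Cfsg.SU 2 F 3, y.1.1 0 1 = 0 → (γb y).1.1 0 1 = 0 := fun y hy =>
    diag_of_normalises_low hσ hc P4 hF fun x hx => by rw [b4]; exact diag_normalises hσ P hy hx
  have Dc : ∀ y : Cfsg.SU 2 F 3, y.1.1 0 1 = 0 → (γc y).1.1 0 1 = 0 := fun y hy =>
    diag_of_normalises_low hσ hc R4 hF fun x hx => by rw [c4]; exact diag_normalises hσ R hy hx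
  have Da : ∀ y : Cfsg.SU 2 F 3, y.1.1 0 1 = 0 → (γa y).1.1 0 1 = 0 := fun y hy => by
    obtain ⟨y1, y2⟩ := su2_row hσ y
    rw [hy, map_zero, neg_zero] at y2
    obtain ⟨z, hrel, z0, z1⟩ := torus_upp hF hσ hc (z := y) Q.hi01
    have hzy : z = y := by
      obtain ⟨t1, t2⟩ := su2_row hσ z
      refine Subtype.ext (Subtype.ext (Matrix.ext fun r s => ?_))
      fin_cases r <;> fin_cases s <;> simp [z0, z1, t1, t2, hy, y1, y2]
    rw [hzy] at hrel
    have h := congrArg ψ hrel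
    rw [map_mul, map_mul, ← b4, ← a4, ← map_mul, ← map_mul] at h
    have e := congrFun (congrFun (congrArg (fun x : Cfsg.SU 3 F 3 => x.1.1) (iψ h)) 0) 1
    change ((low hσ (γb Q.i)).1.1 * (upp hσ (γa y)).1.1) 0 1 =
      ((upp hσ (γa y)).1.1 * (low hσ (γb Q.i)).1.1) 0 1 at e
    rw [low_entries, upp_entries] at e
    simp [Matrix.mul_apply, Fin.sum_univ_three] at e
    obtain ⟨u1, u2⟩ := su2_row hσ (γb Q.i)
    rw [Db _ Q.hi01, map_zero, neg_zero] at u2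
    rcases mul_eq_zero.1 (show (γa y).1.1 0 1 * ((γb Q.i).1.1 0 0 - 1) = 0 by linear_combination -e) with h' | h'
    · exact h'
    · exfalso
      have hi1 : γb Q.i = 1 := Subtype.ext (Subtype.ext (Matrix.ext fun r s => by
        fin_cases r <;> fin_cases s <;> simp [sub_eq_zero.1 h', u1, u2, Db _ Q.hi01]))
      have := Q.hi
      rw [γb.map_eq_one_iff.1 hi1] at this
      exact this (by simp)
  obtain ⟨τa, da, hda, fa⟩ := aut_classify hσ hc hF (by norm_num) γa Da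
  obtain ⟨τb, db, hdb, fb⟩ := aut_classify hσ hc hF (by norm_num) γb Db
  obtain ⟨τc, dc, hdc, fc⟩ := aut_classify hσ hc hF (by norm_num) γc Dc
  have hab : τa = τb := torus_tau hF hσ hc Q iψ a4 b4 (fun h => by simp [h] at hda) (fun y => (fa y).2)
    (fun y => (fb y).1) (Db _ Q.hi01)
  have hbc : τb = τc := torus_tau hF hσ hc Q iχ b4' c4 (fun h => by simp [h] at hdb) (fun y => (fb y).2)
    (fun y => (fc y).1) (Dc _ Q.hi01)
  subst hab hbc
  let e : Fin 4 → F := ![da, 1, σ db, σ db * σ dc]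
  have he : ∀ i, e i * σ (e i) = 1 := fun i => by
    fin_cases i <;> simp [e, map_mul, hc.invol]
    · exact hda
    · linear_combination hdb
    · linear_combination (σ dc * dc) * hdb + hdc
  obtain ⟨Γ, -, hΓ⟩ := exists_twist_vec hσ τa e he hc
  have hblock : ∀ (k : Fin 2 ↪ Fin 4) (γ : Cfsg.SU 2 F 3 ≃* Cfsg.SU 2 F 3) (d : F),
      (∀ y, (γ y).1.1 0 0 = τa (y.1.1 0 0) ∧ (γ y).1.1 0 1 = d * τa (y.1.1 0 1)) → e (k 0) * σ (e (k 1)) = d →
        ∀ y, Γ (emb hσ k y) = emb hσ k (γ y) := by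
    intro k γ d fγ hd y
    have hτσ : ∀ x, τa (σ x) = σ (τa x) := fun x => by rw [hσ, hσ, map_pow]
    refine Subtype.ext (Subtype.ext (Matrix.ext fun r s => ?_))
    rw [hΓ]
    by_cases h : (∃ i, r = k i) ∧ ∃ j, s = k j
    · obtain ⟨⟨i, rfl⟩, ⟨j, rfl⟩⟩ := h
      rw [emb_apply, emb_apply]
      obtain ⟨c1, c2⟩ := su2_row hσ (γ y)
      obtain ⟨y1, y2⟩ := su2_row hσ y
      rw [(fγ y).1] at c1
      rw [(fγ y).2, ← hd, map_mul, map_mul, hc.invol] at c2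
      fin_cases i <;> fin_cases j <;> simp [(fγ y).1, (fγ y).2, ← hd, c1, c2, y1, y2, hτσ]
      · linear_combination τa (y.1.1 0 0) * he (k 0)
      · ring
      · ring
      · linear_combination σ (τa (y.1.1 0 0)) * he (k 1)
    · rw [not_and_or, not_exists, not_exists] at h
      rw [emb_off hσ k y h, emb_off hσ k (γ y) h, Matrix.one_apply]
      split_ifs with hrs
      · subst hrs; rw [map_one, mul_one]; exact he r
      · simp
  have sA := hblock (f01.trans fA) γa da fa (by simp [e])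
  have sB := hblock (f12.trans fA) γb db fb (by
    rw [show (f12.trans fA) 0 = (1 : Fin 4) from rfl, show (f12.trans fA) 1 = (2 : Fin 4) from rfl]
    simp [e, hc.invol])
  have sC := hblock (f12.trans fB) γc dc fc (by
    rw [show (f12.trans fB) 0 = (2 : Fin 4) from rfl, show (f12.trans fB) 1 = (3 : Fin 4) from rfl]
    simp [e, map_mul, hc.invol]
    linear_combination dc * hdb)
  refine ⟨g'.comp Γ, fun x => ?_, fun x => ?_⟩
  · refine DFunLike.congr_fun (hom_eq hF hσ hc (f := (g'.comp Γ).comp (emb hσ fA)) (g := ψ) (fun y => ?_) fun y => ?_) x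
    · show g' (Γ (emb hσ fA (emb hσ f01 y))) = _
      rw [emb_trans, sA, ha]; rfl
    · show g' (Γ (emb hσ fA (emb hσ f12 y))) = _
      rw [emb_trans, sB, hb]; rfl
  · refine DFunLike.congr_fun (hom_eq hF hσ hc (f := (g'.comp Γ).comp (emb hσ fB)) (g := χ) (fun y => ?_) fun y => ?_) x
    · show g' (Γ (emb hσ fB (emb hσ f01 y))) = _
      rw [emb_trans, hAB, sB, hb, hag]; rfl
    · show g' (Γ (emb hσ fB (emb hσ f12 y))) = _
      rw [emb_trans, sC, hc4]; rfl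

end CfsgLib.Phan.Q3
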