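import Cfsg.Agent.Lib.KnownB.Phan.Q3.Lifts

/-!
# Lifts of order three act on one block only
-/

set_option autoImplicit false
set_option linter.unusedSectionVars false

open Matrix CfsgLib.Classical CfsgLib.SUPres

namespace CfsgLib.Phan.Q3

variable {F : Type*} [Field F] [Fintype F] {σ : F →+* F} {G : Type*} [Group G]

/-- The block of a matrix on two coordinates. -/
def blk {n : ℕ} (a b : Fin n) (x : Cfsg.SU n F 3) : Matrix (Fin 2) (Fin 2) F :=
  x.1.1.submatrix ![a, b] ![a, b]

theorem blk_one {n : ℕ} {a b : Fin n} (hab : a ≠ b) : blk a b (1 : Cfsg.SU n F 3) = 1 := by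
  ext r s
  show (1 : Matrix (Fin n) (Fin n) F) (![a, b] r) (![a, b] s) = _
  fin_cases r <;> fin_cases s <;> simp [Matrix.one_apply, hab, hab.symm]

theorem entry_zero {n : ℕ} {x z : Cfsg.SU n F 3} {s : Fin n → F} (hz : z.1.1 = diagonal s) (h : Commute z x)
    {k l : Fin n} (hs : s k ≠ s l) : x.1.1 k l = 0 := by
  have e := congrFun (congrFun (congrArg (fun y : Cfsg.SU n F 3 => y.1.1) h.eq) k) l
  change (z.1.1 * x.1.1) k l = (x.1.1 * z.1.1) k l at e
  rw [hz, diagonal_mul, mul_diagonal] at e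
  by_contra h0
  exact hs (mul_right_cancel₀ h0 (by linear_combination e))

variable (hF : Fintype.card F = 3 ^ 2) (hσ : ∀ x, σ x = x ^ 3) (hc : IsConjugation σ)
include hF hσ hc

theorem blk_mul {a b : Fin 4} (hab : a ≠ b) {z x : Cfsg.SU 4 F 3} {s : Fin 4 → F} (hz : z.1.1 = diagonal s)
    (hsa : s a = 1) (hsb : s b = 1) (hs : ∀ k, k ≠ a → k ≠ b → s k = -1) (hx : Commute z x) (y : Cfsg.SU 4 F 3) :
    blk a b (x * y) = blk a b x * blk a b y := by
  have hne : (1 : F) ≠ -1 := fun e => two_ne hF (by linear_combination e)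
  ext r r'
  show (x.1.1 * y.1.1) (![a, b] r) (![a, b] r') = _
  rw [Matrix.mul_apply, Matrix.mul_apply, Fin.sum_univ_two]
  have hr : s (![a, b] r) = 1 := by fin_cases r <;> simp [hsa, hsb]
  rw [← Finset.sum_subset (Finset.subset_univ ({a, b} : Finset (Fin 4))) fun k _ hk => by
    simp only [Finset.mem_insert, Finset.mem_singleton, not_or] at hk
    rw [entry_zero hz hx (by rw [hr, hs k hk.1 hk.2]; exact hne), zero_mul]]
  rw [Finset.sum_pair hab]
  rfl

/-- An element fixing the outer part and trivial on the block fixes the two coordinates of the block. -/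
theorem mem_compl {a b : Fin 4} (hab : a ≠ b) {z x : Cfsg.SU 4 F 3} {s : Fin 4 → F} (hz : z.1.1 = diagonal s)
    (hsa : s a = 1) (hsb : s b = 1) (hs : ∀ k, k ≠ a → k ≠ b → s k = -1) (hx : Commute z x) (h : blk a b x = 1) :
    x ∈ fixS F 3 ({a, b} : Finset (Fin 4))ᶜ := by
  have hne : (-1 : F) ≠ 1 := fun e => two_ne hF (by linear_combination -e)
  intro k hk
  simp only [Finset.mem_compl, not_not, Finset.mem_insert, Finset.mem_singleton] at hk
  have hsk : s k = 1 := by rcases hk with rfl | rfl <;> assumption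
  funext l
  rw [act_col hσ]
  by_cases hl : l = a ∨ l = b
  · obtain ⟨r, rfl⟩ : ∃ r, ![a, b] r = l := by
      rcases hl with rfl | rfl
      · exact ⟨0, rfl⟩
      · exact ⟨1, rfl⟩
    obtain ⟨r', rfl⟩ : ∃ r, ![a, b] r = k := by
      rcases hk with rfl | rfl
      · exact ⟨0, rfl⟩
      · exact ⟨1, rfl⟩
    have e := congrFun (congrFun h r) r'
    rw [blk, Matrix.submatrix_apply] at e
    rw [e]
    fin_cases r <;> fin_cases r' <;> simp [ev, Pi.single_apply, Matrix.one_apply, hab, hab.symm]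
  · rw [not_or] at hl
    rw [entry_zero hz hx (by rw [hs l hl.1 hl.2, hsk]; exact hne)]
    have : l ≠ k := by rcases hk with rfl | rfl <;> [exact hl.1; exact hl.2]
    simp [ev, Pi.single_apply, this]

variable {g : Cfsg.SU 4 F 3 →* G} (hg : g.ker ≤ Subgroup.center (Cfsg.SU 4 F 3))
variable {ι : Cfsg.SU 2 F 3 →* G} (hι : ι.range ≤ g.range)
include hg hι

/-- An element of order three over a subgroup acts trivially on the block where the commutator does. -/
theorem block_trivial (Q : Quat F) {a b : Fin 4} (hab : a ≠ b) {z w : Cfsg.SU 4 F 3} {s r : Fin 4 → F}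
    (Z : ZData g ι Q z) (hz : z.1.1 = diagonal s) (hsa : s a = 1) (hsb : s b = 1)
    (hs : ∀ k, k ≠ a → k ≠ b → s k = -1) (hw : w.1.1 = diagonal r) (hr : r a ≠ r b)
    (hconj : ∀ y, g w * ι y * (g w)⁻¹ = ι (Q.i * y * Q.i⁻¹)) {t : Cfsg.SU 4 F 3} (ht : t ^ 3 = 1)
    (htr : g t ∈ ι.range) : t ∈ fixS F 3 ({a, b} : Finset (Fin 4))ᶜ := by
  have mul := fun (x y : Cfsg.SU 4 F 3) (h : Commute z x) => blk_mul hF hσ hc hab hz hsa hsb hs h y
  have hz1 : blk a b z = 1 := by
    ext p p'
    show z.1.1 (![a, b] p) (![a, b] p') = _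
    rw [hz]
    fin_cases p <;> fin_cases p' <;> simp [hsa, hsb, hab, hab.symm]
  have hk : ∀ k ∈ Subgroup.center (Cfsg.SU 4 F 3), ∃ c : F, c ≠ 0 ∧ blk a b k = c • 1 ∧ Commute z k := fun k hk => by
    obtain ⟨c, e, hc4, -⟩ := central_scalar hF hσ hc hk
    refine ⟨c, fun h => by simp [h] at hc4, ?_, Subgroup.mem_center_iff.1 hk z⟩
    ext p p'
    show k.1.1 (![a, b] p) (![a, b] p') = _
    rw [e]
    fin_cases p <;> fin_cases p' <;> simp [hab, hab.symm]
  -- lifts commuting with the commutator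
  have lift : ∀ y, ∃ x, Commute z x ∧ g x = ι y := fun y => by
    obtain ⟨x, hx, e⟩ := lift_all hF hσ hc hι (Subgroup.centralizer {z}) (fun u hu hr =>
      Subgroup.mem_centralizer_singleton_iff.2 (Z.commT u hu hr).symm.eq) hg y
    exact ⟨x, (show Commute x z from Subgroup.mem_centralizer_singleton_iff.1 hx).symm, e⟩
  obtain ⟨I, hI, eI⟩ := lift Q.i
  obtain ⟨J, hJ, eJ⟩ := lift Q.j
  obtain ⟨U, hU, eU⟩ := lift Q.u
  obtain ⟨V, hV, eV⟩ := lift Q.v
  set X := blk a b I with hX
  set Y := blk a b J with hY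
  have sq : ∀ (A : Cfsg.SU 4 F 3) (y : Cfsg.SU 2 F 3), Commute z A → g A = ι y → y * y = Q.m →
      ∃ c : F, c ≠ 0 ∧ blk a b A * blk a b A = c • 1 := fun A y hA eA hy => by
    obtain ⟨k, hkc, e⟩ := diff_central hF hσ hc hg (show g (A * A) = g z by rw [map_mul, eA, Z.map, ← map_mul, hy])
    obtain ⟨c, hc0, ec, -⟩ := hk k hkc
    exact ⟨c, hc0, by rw [← mul A A hA, e, mul z k (Commute.refl z), hz1, ec, one_mul]⟩
  obtain ⟨cX, hcX, eX2⟩ := sq I Q.i hI eI Q.hii
  obtain ⟨cY, hcY, eY2⟩ := sq J Q.j hJ eJ Q.hjj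
  have hXY : X * Y = Y * X := by
    have e := Z.lifts I J eI eJ
    have e' : I * J = z * (J * I) := by rw [← e]; group
    rw [hX, hY, ← mul I J hI, e', mul z _ (Commute.refl z), hz1, one_mul, mul J I hJ]
  -- conjugation by lifts
  have inv : ∀ A, Commute z A → blk a b A⁻¹ * blk a b A = 1 := fun A hA => by
    rw [← mul A⁻¹ A hA.inv_right, inv_mul_cancel, blk_one hab]
  have conj : ∀ A B, Commute z A → Commute z B → ∀ d : F, g (A * I) = g (B * A) → blk a b B = d • 1 →
      ∃ e : F, X = e • 1 := fun A B hA hB d e hBd => by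
    obtain ⟨k, hkc, e'⟩ := diff_central hF hσ hc hg e
    obtain ⟨c, -, ec, hck⟩ := hk k hkc
    have h := congrArg (blk a b) e'
    rw [mul A I hA, mul (B * A) k (hB.mul_right hA), mul B A hB, hBd, ec] at h
    refine ⟨d * c, ?_⟩
    calc X = blk a b A⁻¹ * (blk a b A * X) := by rw [← mul_assoc, inv A hA, one_mul]
      _ = _ := by rw [hX, h]; simp [smul_smul, inv A hA, mul_comm]
  have hXs : ∃ c : F, X = c • 1 := by
    by_contra hns
    obtain ⟨α, β, hαβ⟩ := commutant_two (fun c e => hns ⟨c, e⟩) hXY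
    have hα : α ≠ 0 := fun h0 => hns (conj U J hU hJ β (by rw [map_mul, map_mul, eU, eI, eJ, ← map_mul ι, ← map_mul ι, Q.hu])
      (by rw [← hY, hαβ, h0, zero_smul, zero_add]))
    have hsq : (α * α * cX + β * β - cY) • (1 : Matrix (Fin 2) (Fin 2) F) + (2 * α * β) • X = 0 := by
      rw [hαβ] at hY
      have h := eY2
      rw [← hY] at h
      have eX2' : X * X = cX • 1 := eX2
      simp only [add_mul, mul_add, smul_mul_smul_comm, eX2', mul_one, one_mul, smul_smul] at h
      rw [sub_smul, add_smul, ← h]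
      module
    have hβ : β = 0 := by
      by_contra hb
      refine hns ⟨-(α * α * cX + β * β - cY) / (2 * α * β), ?_⟩
      have h2 : 2 * α * β ≠ 0 := mul_ne_zero (mul_ne_zero (two_ne hF) hα) hb
      have h := congrArg (fun M => (2 * α * β)⁻¹ • M) hsq
      simp only [smul_add, smul_smul, inv_mul_cancel₀ h2, one_smul, smul_zero] at h
      rw [eq_neg_of_add_eq_zero_right h, ← neg_smul, neg_div, div_eq_inv_mul]
    refine hns (conj V (I * J) hV (hI.mul_right hJ) (α * cX)
      (by rw [map_mul, map_mul, map_mul, eV, eI, eJ, ← map_mul ι, ← map_mul ι, ← map_mul ι, Q.hv]) ?_)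
    rw [mul I J hI, ← hX, ← hY, hαβ, hβ, zero_smul, add_zero, Matrix.mul_smul, eX2, smul_smul]
  obtain ⟨c, hXc⟩ := hXs
  have hc0 : c ≠ 0 := fun e => by
    have := inv I hI
    rw [← hX, hXc, e, zero_smul, mul_zero] at this
    exact zero_ne_one this
  -- the diagonal element acts as the inner one
  have hct : Commute (I⁻¹ * w) t := comm_exact hF hσ hc hg ht (by
    obtain ⟨y, hy⟩ := htr
    rw [map_mul, map_inv, eI, ← hy]
    have h := hconj y
    rw [map_mul ι, map_mul ι, map_inv ι, mul_inv_eq_iff_eq_mul] at h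
    show (ι Q.i)⁻¹ * g w * ι y = ι y * ((ι Q.i)⁻¹ * g w)
    rw [mul_assoc, h]
    group)
  have hzt : Commute z t := Z.commT t ht htr
  have hzw : Commute z w := Subtype.ext (Subtype.ext (by
    show z.1.1 * w.1.1 = w.1.1 * z.1.1
    rw [hz, hw, diagonal_mul_diagonal, diagonal_mul_diagonal]
    congr 1
    funext k
    ring))
  set T := blk a b t with hT
  have hI' : blk a b I⁻¹ = c⁻¹ • 1 := by
    have h := inv I hI
    rw [← hX, hXc, Matrix.mul_smul, mul_one] at h
    rw [← h, smul_smul, inv_mul_cancel₀ hc0, one_smul]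
  have hDT : blk a b w * T = T * blk a b w := by
    have h := congrArg (blk a b) hct.eq
    rw [mul _ t (hI.inv_right.mul_right hzw), mul t _ hzt, mul I⁻¹ w hI.inv_right, hI', Matrix.smul_mul, one_mul,
      Matrix.smul_mul, Matrix.mul_smul] at h
    exact smul_right_injective _ (inv_ne_zero hc0) h
  have hD : blk a b w = diagonal ![r a, r b] := by
    ext p p'
    show w.1.1 (![a, b] p) (![a, b] p') = _
    rw [hw]
    fin_cases p <;> fin_cases p' <;> simp [hab, hab.symm]
  rw [hD] at hDT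
  have h01 : T 0 1 = 0 := by
    have e := congrFun (congrFun hDT 0) 1
    rw [diagonal_mul, mul_diagonal] at e
    exact (mul_eq_zero.1 (show (r a - r b) * T 0 1 = 0 by simp at e; linear_combination e)).resolve_left (sub_ne_zero.2 hr)
  have h10 : T 1 0 = 0 := by
    have e := congrFun (congrFun hDT 1) 0
    rw [diagonal_mul, mul_diagonal] at e
    exact (mul_eq_zero.1 (show (r a - r b) * T 1 0 = 0 by simp at e; linear_combination -e)).resolve_left (sub_ne_zero.2 hr)
  have hT3 : T * (T * T) = 1 := by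
    rw [hT, ← mul t t hzt, ← mul t (t * t) hzt, show t * (t * t) = t ^ 3 by rw [pow_succ, pow_two, mul_assoc], ht,
      blk_one hab]
  refine mem_compl hF hσ hc hab hz hsa hsb hs hzt ?_
  have e0 := congrFun (congrFun hT3 0) 0
  have e1 := congrFun (congrFun hT3 1) 1
  simp [Matrix.mul_apply, Fin.sum_univ_two, h01, h10] at e0 e1
  rw [← hT]
  ext p p'
  fin_cases p <;> fin_cases p' <;> simp [h01, h10]
  · exact eq_one_of_cube hF (by rw [← e0]; ring)
  · exact eq_one_of_cube hF (by rw [← e1]; ring)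

/-- An element of order three commuting with a coordinate subgroup lies in the complementary one. -/
theorem block_of_centraliser {a b : Fin 4} (hab : a ≠ b) {z : Cfsg.SU 4 F 3} {s : Fin 4 → F}
    (hz : z.1.1 = diagonal s) (hsa : s a = 1) (hsb : s b = 1) (hs : ∀ k, k ≠ a → k ≠ b → s k = -1)
    {x : Cfsg.SU 4 F 3} (hx : Commute z x) (hx3 : x ^ 3 = 1)
    (hcm : ∀ y ∈ fixS F 3 ({a, b} : Finset (Fin 4)), Commute y x) :
    x ∈ fixS F 3 ({a, b} : Finset (Fin 4))ᶜ := by
  let f : Fin 2 ↪ Fin 4 := ⟨![a, b], by intro p p'; fin_cases p <;> fin_cases p' <;> simp [hab, hab.symm]⟩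
  have hf : (Finset.univ : Finset (Fin 2)).map f = {a, b} := by
    ext k
    simp [f, Fin.exists_fin_two, eq_comm, DFunLike.coe]
  have hyz : ∀ y ∈ fixS F 3 ({a, b} : Finset (Fin 4)), Commute z y := fun y hy => Subtype.ext (Subtype.ext (by
    show z.1.1 * y.1.1 = y.1.1 * z.1.1
    rw [hz]
    ext k l
    rw [diagonal_mul, mul_diagonal]
    by_cases hl : l ∈ ({a, b} : Finset (Fin 4))
    · by_cases hk : k ∈ ({a, b} : Finset (Fin 4))
      · have : s k = 1 ∧ s l = 1 := by
          simp at hk hl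
          rcases hk with rfl | rfl <;> rcases hl with rfl | rfl <;> simp [hsa, hsb]
        rw [this.1, this.2, one_mul, mul_one]
      · have := fixS_coord hσ hy (ev l) hk
        rw [act_col hσ] at this
        have hkl : k ≠ l := fun e => hk (e ▸ hl)
        simp [this, ev, Pi.single_apply, hkl]
    · have := congrFun (hy l hl) k
      rw [act_col hσ] at this
      by_cases hkl : k = l
      · subst hkl; ring
      · simp [this, ev, Pi.single_apply, hkl]))
  obtain ⟨c, e⟩ : ∃ c : F, blk a b x = c • 1 := by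
    refine scalar_of_commute (q := 3) hF le_rfl _ fun m hm hdet => ?_
    let y : SpecialLinearGroup (Fin 2) F := ⟨(m : Matrix (Fin 2) (Fin 2) F), congrArg Units.val hdet⟩
    have hy : y ∈ Cfsg.SU 2 F 3 := by
      show SpecialLinearGroup.toGL y ∈ Cfsg.GU 2 F 3
      rwa [show SpecialLinearGroup.toGL y = m from Units.ext rfl]
    have hmem : emb hσ f ⟨y, hy⟩ ∈ fixS F 3 ({a, b} : Finset (Fin 4)) := hf ▸ emb_mem hσ f _
    have e1 : blk a b (emb hσ f ⟨y, hy⟩) = (m : Matrix (Fin 2) (Fin 2) F) :=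
      Matrix.ext fun p p' => emb_apply hσ f ⟨y, hy⟩ p p'
    rw [← e1, ← blk_mul hF hσ hc hab hz hsa hsb hs hx, ← blk_mul hF hσ hc hab hz hsa hsb hs (hyz _ hmem),
      (hcm _ hmem).eq]
  refine mem_compl hF hσ hc hab hz hsa hsb hs hx ?_
  have h3 : blk a b (x ^ 3) = (c ^ 3) • 1 := by
    rw [pow_succ, pow_two, blk_mul hF hσ hc hab hz hsa hsb hs (hx.mul_right hx),
      blk_mul hF hσ hc hab hz hsa hsb hs hx, e]
    simp [smul_smul, pow_succ, mul_assoc]
  rw [hx3, blk_one hab] at h3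
  have := congrFun (congrFun h3 0) 0
  simp at this
  rw [e, eq_one_of_cube hF this.symm, one_smul]

/-- A subgroup whose lifts of order three lie in a coordinate pair is the image of that pair. -/
theorem map_eq_range (hinj : Function.Injective ι) {S : Finset (Fin 4)} (f : Fin 2 ↪ Fin 4)
    (hS : Finset.univ.map f = S) (h : ∀ t, t ^ 3 = 1 → g t ∈ ι.range → t ∈ fixS F 3 S) :
    (fixS F 3 S).map g = ι.range := by
  haveI : Finite ((fixS F 3 S).map g) := Finite.of_surjective
    (fun x : fixS F 3 S => (⟨g x.1, x.1, x.2, rfl⟩ : (fixS F 3 S).map g))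
    fun ⟨_, x, hx, e⟩ => ⟨⟨x, hx⟩, Subtype.ext e⟩
  symm
  refine Subgroup.eq_of_le_of_card_ge ?_ ?_
  · rintro _ ⟨y, rfl⟩
    obtain ⟨x, hx, e⟩ := lift_all hF hσ hc hι _ h hg y
    exact ⟨x, hx, e⟩
  · rw [Nat.card_congr (MonoidHom.ofInjective hinj).toEquiv.symm,
      Nat.card_congr (embEquiv (q := 3) hσ f).toEquiv, hS]
    exact Nat.card_le_card_of_surjective (fun x : fixS F 3 S => (⟨g x.1, x.1, x.2, rfl⟩ : (fixS F 3 S).map g))
      fun ⟨_, x, hx, e⟩ => ⟨⟨x, hx⟩, Subtype.ext e⟩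

end CfsgLib.Phan.Q3
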