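import Cfsg.Agent.Lib.KnownB.Phan.Q3.Rank1
import Cfsg.Agent.Lib.KnownB.Phan.Field
import Cfsg.Agent.Lib.KnownB.SUPres.Ext

/-!
# An orthonormal frame for two commuting involutions of the four-dimensional unitary group
-/

set_option autoImplicit false
set_option linter.unusedSectionVars false

open Matrix CfsgLib.Classical CfsgLib.SUPres

namespace CfsgLib.Phan.Q3

set_option synthInstance.maxSize 2000 in
theorem bool_frame : ∀ a b c d a' b' c' d' : Bool,
    xor (xor a b) (xor c d) = false → xor (xor a' b') (xor c' d') = false →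
    ¬(a = b ∧ a = c ∧ a = d) → ¬(a' = b' ∧ a' = c' ∧ a' = d') → ¬(a = a' ∧ b = b' ∧ c = c' ∧ d = d') →
    ¬(a = !a' ∧ b = !b' ∧ c = !c' ∧ d = !d') →
    ∀ k l : Fin 4, ![(a, a'), (b, b'), (c, c'), (d, d')] k = ![(a, a'), (b, b'), (c, c'), (d, d')] l → k = l := by
  intro a b c d
  cases a <;> cases b <;> cases c <;> cases d <;> decide +kernel

variable {F : Type*} [Field F] [Fintype F] {σ : F →+* F}
variable (hF : Fintype.card F = 3 ^ 2) (hσ : ∀ x, σ x = x ^ 3) (hc : IsConjugation σ)
include hF hσ hc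

theorem split_eigen {n : ℕ} {z : Cfsg.SU n F 3} (hz : z * z = 1) {S : Finset (Fin n)}
    (hS : ∀ x, Supp x S → Supp (act z x) S) {v : Fin n → F} (hv : Supp v S) (hv0 : stdHerm σ n v v ≠ 0) :
    ∃ s : F, (s = 1 ∨ s = -1) ∧ act z (v + s • act z v) = s • (v + s • act z v) ∧
      Supp (v + s • act z v) S ∧ stdHerm σ n (v + s • act z v) (v + s • act z v) ≠ 0 := by
  have hzz : act z (act z v) = v := by rw [← act_mul, hz, act_one]
  have hsum : stdHerm σ n (v + (1 : F) • act z v) (v + (1 : F) • act z v) +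
      stdHerm σ n (v + (-1 : F) • act z v) (v + (-1 : F) • act z v) = stdHerm σ n v v := by
    simp [su_form hσ]
    linear_combination (stdHerm σ n v v) * char_three hF
  have heig : ∀ s : F, s * s = 1 → act z (v + s • act z v) = s • (v + s • act z v) := fun s hs => by
    rw [act_add, act_smul, hzz, smul_add, smul_smul, hs, one_smul, add_comm]
  have hsupp : ∀ s : F, Supp (v + s • act z v) S := fun s => hv.add ((hS v hv).smul s)
  by_cases h : stdHerm σ n (v + (1 : F) • act z v) (v + (1 : F) • act z v) = 0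
  · rw [h, zero_add] at hsum
    exact ⟨-1, Or.inr rfl, heig _ (by ring), hsupp _, by rw [hsum]; exact hv0⟩
  · exact ⟨1, Or.inl rfl, heig _ (by ring), hsupp _, h⟩

/-- Two commuting involutions are diagonal in some orthonormal frame. -/
theorem exists_diag {z w : Cfsg.SU 4 F 3} (hz : z * z = 1) (hw : w * w = 1) (hzw : z * w = w * z) :
    ∃ (h : Cfsg.SU 4 F 3) (s t : Fin 4 → F), (∀ k, (s k = 1 ∨ s k = -1) ∧ (t k = 1 ∨ t k = -1)) ∧
      (h⁻¹ * z * h).1.1 = diagonal s ∧ (h⁻¹ * w * h).1.1 = diagonal t := by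
  classical
  have step : ∀ k ≤ 3, ∃ h : Cfsg.SU 4 F 3, ∀ i : Fin 4, i.val < k → ∃ s t : F, (s = 1 ∨ s = -1) ∧ (t = 1 ∨ t = -1) ∧
      act (h⁻¹ * z * h) (ev i) = s • ev i ∧ act (h⁻¹ * w * h) (ev i) = t • ev i := by
    intro k
    induction k with
    | zero => exact fun _ => ⟨1, fun i hi => absurd hi (Nat.not_lt_zero _)⟩
    | succ k ih =>
      intro hk
      obtain ⟨h, hh⟩ := ih (by omega)
      set z' := h⁻¹ * z * h with hz'
      set w' := h⁻¹ * w * h with hw'
      have z2 : z' * z' = 1 := by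
        rw [hz', show h⁻¹ * z * h * (h⁻¹ * z * h) = h⁻¹ * (z * z) * h by group, hz]; group
      have w2 : w' * w' = 1 := by
        rw [hw', show h⁻¹ * w * h * (h⁻¹ * w * h) = h⁻¹ * (w * w) * h by group, hw]; group
      have zw : z' * w' = w' * z' := by
        rw [hz', hw', show h⁻¹ * z * h * (h⁻¹ * w * h) = h⁻¹ * (z * w) * h by group, hzw]; group
      let S : Finset (Fin 4) := Finset.univ.filter fun i => k ≤ i.val
      have hpres : ∀ y : Cfsg.SU 4 F 3, (∀ i : Fin 4, i.val < k → ∃ s : F, s ≠ 0 ∧ act y (ev i) = s • ev i) →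
          ∀ x, Supp x S → Supp (act y x) S := fun y hy x hx i hi => by
        have hik : i.val < k := by simpa [S] using hi
        obtain ⟨s, hs0, es⟩ := hy i hik
        have e := su_form hσ y (ev i) x
        rw [es, show stdHerm σ 4 (ev i) x = x i from stdHerm_single 4 i x, hx i hi] at e
        simp at e
        rcases e with e | e
        · exact absurd e hs0
        · rwa [show stdHerm σ 4 (ev i) (act y x) = act y x i from stdHerm_single 4 i _] at e
      have hne : ∀ s : F, (s = 1 ∨ s = -1) → s ≠ 0 := fun s hs => by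
        rcases hs with rfl | rfl <;> simp
      have hSz := hpres z' fun i hi => by
        obtain ⟨s, t, hs, ht, e1, e2⟩ := hh i hi
        exact ⟨s, hne s hs, e1⟩
      have hSw := hpres w' fun i hi => by
        obtain ⟨s, t, hs, ht, e1, e2⟩ := hh i hi
        exact ⟨t, hne t ht, e2⟩
      let i0 : Fin 4 := ⟨k, by omega⟩
      let l0 : Fin 4 := ⟨k + 1, by omega⟩
      obtain ⟨s, hs, es, hsS, hs0⟩ := split_eigen hF hσ hc z2 hSz (v := ev i0) (supp_ev (by simp [S, i0]))
        (by rw [herm_ev_self]; exact one_ne_zero)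
      set p := ev i0 + s • act z' (ev i0)
      obtain ⟨t, ht, et, htS, ht0⟩ := split_eigen hF hσ hc w2 hSw hsS hs0
      set p' := p + t • act w' p
      have es' : act z' p' = s • p' := by
        rw [act_add, act_smul, ← act_mul z' w', zw, act_mul w' z', es, act_smul, smul_comm t s]
        exact (smul_add s p _).symm
      obtain ⟨c, hcn⟩ := hc.exists_norm_eq (herm_self_fixed hc p')
      have hc0 : c ≠ 0 := fun e => ht0 (by rw [← hcn, e, zero_mul])
      obtain ⟨g, hg, eg⟩ := fixS_to_ev hσ hc (i := i0) (l := l0) (S := S) (by simp [S, i0]) (by simp [S, l0])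
        (by simp [i0, l0, Fin.ext_iff]) htS hc0 hcn.symm
      refine ⟨h * g, fun i hi => ?_⟩
      have conv : ∀ y : Cfsg.SU 4 F 3, (h * g)⁻¹ * y * (h * g) = g⁻¹ * (h⁻¹ * y * h) * g := fun y => by group
      rw [conv, conv, ← hz', ← hw']
      by_cases hik : i.val < k
      · obtain ⟨s', t', hs', ht', e1, e2⟩ := hh i hik
        have hgi : act g (ev i) = ev i := hg i (by simp [S]; omega)
        refine ⟨s', t', hs', ht', ?_, ?_⟩
        · rw [act_mul, act_mul, hgi, e1, act_smul, inv_mem hg i (by simp [S]; omega)]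
        · rw [act_mul, act_mul, hgi, e2, act_smul, inv_mem hg i (by simp [S]; omega)]
      · obtain rfl : i = i0 := Fin.ext (by simp [i0]; omega)
        have eg' : act g (ev i0) = c⁻¹ • p' := by
          rw [← eg, act_smul, smul_smul, inv_mul_cancel₀ hc0, one_smul]
        have back : act g⁻¹ p' = c • ev i0 := act_inv_of eg
        refine ⟨s, t, hs, ht, ?_, ?_⟩
        · rw [act_mul, act_mul, eg', act_smul, es', smul_smul, act_smul, back, smul_smul]
          congr 1
          field_simp
        · rw [act_mul, act_mul, eg', act_smul, et, smul_smul, act_smul, back, smul_smul]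
          congr 1
          field_simp
  obtain ⟨h, hh⟩ := step 3 le_rfl
  have all : ∀ y : Cfsg.SU 4 F 3, y * y = 1 → (∀ i : Fin 4, i.val < 3 → ∃ s : F, (s = 1 ∨ s = -1) ∧ act y (ev i) = s • ev i) →
      ∀ i, ∃ s : F, (s = 1 ∨ s = -1) ∧ act y (ev i) = s • ev i := fun y hy2 hy i => by
    by_cases hi : i.val < 3
    · exact hy i hi
    obtain rfl : i = 3 := Fin.ext (by have := i.isLt; simp; omega)
    have e : act y (ev 3) = act y (ev 3) 3 • ev 3 := by
      funext m
      by_cases hm : m = 3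
      · subst hm; simp [ev]
      · obtain ⟨s, hs, es⟩ := hy m (by
          have := m.isLt
          have : m.val ≠ 3 := fun e => hm (Fin.ext e)
          omega)
        have e : act y (ev 3) m = 0 := by
          rw [← stdHerm_single (σ := σ) 4 m (act y (ev 3))]
          show stdHerm σ 4 (ev m) _ = 0
          rw [← su_form hσ y, ← act_mul, hy2, act_one, es]
          simp only [map_smulₛₗ, LinearMap.smul_apply, smul_eq_mul]
          rw [show stdHerm σ 4 (ev m) (ev 3) = (ev 3 : Fin 4 → F) m from stdHerm_single 4 m _]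
          simp [ev, hm]
        rw [e]
        simp [ev, hm]
    refine ⟨_, ?_, e⟩
    have h2 : act y (act y (ev 3)) = ev 3 := by rw [← act_mul, hy2, act_one]
    rw [e, act_smul, e, smul_smul] at h2
    exact mul_self_eq_one_iff.1 (by simpa [ev] using congrFun h2 3)
  have z2 : h⁻¹ * z * h * (h⁻¹ * z * h) = 1 := by
    rw [show h⁻¹ * z * h * (h⁻¹ * z * h) = h⁻¹ * (z * z) * h by group, hz]; group
  have w2 : h⁻¹ * w * h * (h⁻¹ * w * h) = 1 := by
    rw [show h⁻¹ * w * h * (h⁻¹ * w * h) = h⁻¹ * (w * w) * h by group, hw]; group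
  choose s hs es using all _ z2 fun i hi => by obtain ⟨a, b, ha, hb, e1, e2⟩ := hh i hi; exact ⟨a, ha, e1⟩
  choose t ht et using all _ w2 fun i hi => by obtain ⟨a, b, ha, hb, e1, e2⟩ := hh i hi; exact ⟨b, hb, e2⟩
  refine ⟨h, s, t, fun k => ⟨hs k, ht k⟩, ?_, ?_⟩
  · ext k l
    rw [← act_col hσ, es]
    by_cases hkl : k = l
    · subst hkl; simp [ev]
    · simp [ev, hkl]
  · ext k l
    rw [← act_col hσ, et]
    by_cases hkl : k = l
    · subst hkl; simp [ev]
    · simp [ev, hkl]

/-- The frame with prescribed signs. -/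
theorem exists_frame {z w : Cfsg.SU 4 F 3} (hz : z * z = 1) (hw : w * w = 1) (hzw : z * w = w * z)
    (hzs : ∀ c : F, z.1.1 ≠ c • 1) (hws : ∀ c : F, w.1.1 ≠ c • 1) (hzw' : ∀ c : F, z.1.1 ≠ c • w.1.1) :
    ∃ h : Cfsg.SU 4 F 3, (h⁻¹ * z * h).1.1 = diagonal ![-1, -1, 1, 1] ∧
      (h⁻¹ * w * h).1.1 = diagonal ![1, -1, -1, 1] := by
  classical
  obtain ⟨h, s, t, hst, ez, ew⟩ := exists_diag hF hσ hc hz hw hzw
  have hne : (-1 : F) ≠ 1 := fun e => two_ne hF (by linear_combination -e)
  let val : Bool → F := fun b => if b then 1 else -1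
  let bs : Fin 4 → Bool := fun k => decide (s k = 1)
  let bt : Fin 4 → Bool := fun k => decide (t k = 1)
  have hbs : ∀ k, s k = val (bs k) := fun k => by
    rcases (hst k).1 with e | e <;> simp [val, bs, e, hne]
  have hbt : ∀ k, t k = val (bt k) := fun k => by
    rcases (hst k).2 with e | e <;> simp [val, bt, e, hne]
  have back : ∀ (y : Cfsg.SU 4 F 3) (c : F), (h⁻¹ * y * h).1.1 = c • 1 → y.1.1 = c • 1 := fun y c e => by
    have e' : y = h * (h⁻¹ * y * h) * h⁻¹ := by group
    rw [e']
    show h.1.1 * (h⁻¹ * y * h).1.1 * h⁻¹.1.1 = c • 1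
    rw [e, Matrix.mul_smul, mul_one, Matrix.smul_mul,
      show h.1.1 * h⁻¹.1.1 = (h * h⁻¹).1.1 from rfl, mul_inv_cancel]
    rfl
  have par : ∀ (y : Cfsg.SU 4 F 3) (b : Fin 4 → Bool), (h⁻¹ * y * h).1.1 = diagonal (fun k => val (b k)) →
      xor (xor (b 0) (b 1)) (xor (b 2) (b 3)) = false := fun y b e => by
    have hdet := (h⁻¹ * y * h).1.2
    rw [e, det_diagonal, Fin.prod_univ_four] at hdet
    cases hb0 : b 0 <;> cases hb1 : b 1 <;> cases hb2 : b 2 <;> cases hb3 : b 3 <;>
      simp [val, hb0, hb1, hb2, hb3, hne] at hdet ⊢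
  have nsc : ∀ (y : Cfsg.SU 4 F 3) (b : Fin 4 → Bool), (h⁻¹ * y * h).1.1 = diagonal (fun k => val (b k)) →
      (∀ c : F, y.1.1 ≠ c • 1) → ¬(b 0 = b 1 ∧ b 0 = b 2 ∧ b 0 = b 3) := fun y b e hy hb => by
    refine hy (val (b 0)) (back y _ (e.trans ?_))
    rw [smul_one_eq_diagonal]
    congr 1
    funext k
    fin_cases k <;> simp [hb.1.symm, hb.2.1.symm, hb.2.2.symm]
  have ez' : (h⁻¹ * z * h).1.1 = diagonal (fun k => val (bs k)) := ez.trans (by congr 1; exact funext hbs)
  have ew' : (h⁻¹ * w * h).1.1 = diagonal (fun k => val (bt k)) := ew.trans (by congr 1; exact funext hbt)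
  have ezw : ∀ c : F, (∀ k, val (bs k) = c * val (bt k)) → False := fun c hk => by
    have hw2 : w.1.1 * w.1.1 = 1 := congrArg (fun y : Cfsg.SU 4 F 3 => y.1.1) hw
    refine hzw' c ?_
    have hdiag : (h⁻¹ * (z * w) * h).1.1 = c • 1 := by
      rw [show h⁻¹ * (z * w) * h = (h⁻¹ * z * h) * (h⁻¹ * w * h) by group]
      show (h⁻¹ * z * h).1.1 * (h⁻¹ * w * h).1.1 = _
      rw [ez', ew', diagonal_mul_diagonal, smul_one_eq_diagonal]
      congr 1
      funext k
      rw [hk k, mul_assoc, show val (bt k) * val (bt k) = 1 by cases bt k <;> simp [val], mul_one]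
    calc z.1.1 = z.1.1 * (w.1.1 * w.1.1) := by rw [hw2, mul_one]
      _ = (z * w).1.1 * w.1.1 := by rw [← mul_assoc]; rfl
      _ = _ := by rw [back _ _ hdiag, Matrix.smul_mul, one_mul]
  have hinj : Function.Injective fun k => (bs k, bt k) := by
    have := bool_frame (bs 0) (bs 1) (bs 2) (bs 3) (bt 0) (bt 1) (bt 2) (bt 3) (par z bs ez') (par w bt ew')
      (nsc z bs ez' hzs) (nsc w bt ew' hws)
      (fun e => ezw 1 fun k => by fin_cases k <;> simp [e.1, e.2.1, e.2.2.1, e.2.2.2])
      (fun e => ezw (-1) fun k => by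
        fin_cases k <;> simp [val, e.1, e.2.1, e.2.2.1, e.2.2.2] <;>
          split_ifs <;> simp_all)
    intro k l e
    refine this k l ?_
    fin_cases k <;> fin_cases l <;> simpa using e
  let e1 : Fin 4 ≃ Bool × Bool := Equiv.ofBijective _ ((Fintype.bijective_iff_injective_and_card _).2 ⟨hinj, rfl⟩)
  let e0 : Fin 4 ≃ Bool × Bool := Equiv.ofBijective ![(false, true), (false, false), (true, false), (true, true)]
    ((Fintype.bijective_iff_injective_and_card _).2 ⟨by unfold Function.Injective; decide, rfl⟩)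
  let π : Equiv.Perm (Fin 4) := e0.trans e1.symm
  have hπ : ∀ k, (bs (π k), bt (π k)) = ![(false, true), (false, false), (true, false), (true, true)] k := fun k =>
    e1.apply_symm_apply (e0 k)
  let ε : Fin 4 → F := fun k => if k = 0 then ((Equiv.Perm.sign π : ℤ) : F) else 1
  have hε2 : ∀ k, ε k * ε k = 1 := fun k => by
    simp only [ε]
    split_ifs
    · rcases Int.units_eq_one_or (Equiv.Perm.sign π) with e | e <;> simp [e]
    · rw [one_mul]
  have hεσ : ∀ k, σ (ε k) = ε k := fun k => by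
    simp only [ε]
    split_ifs <;> simp
  let M : Matrix (Fin 4) (Fin 4) F := fun a b => if a = π b then ε b else 0
  have hMdet : M.det = 1 := by
    have : M = (1 : Matrix (Fin 4) (Fin 4) F).submatrix id π * diagonal ε := by
      ext a b
      rw [mul_diagonal]
      simp [M, Matrix.one_apply]
    rw [this, det_mul, det_diagonal, Matrix.det_permute', det_one, mul_one, Fin.prod_univ_four]
    simpa [ε] using hε2 0
  have hMu : (M.map σ)ᵀ * M = 1 := by
    ext a b
    rw [Matrix.mul_apply, Finset.sum_eq_single (π a)]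
    · by_cases hab : a = b
      · subst hab; rw [Matrix.transpose_apply, Matrix.map_apply]; simp [M, hεσ, hε2]
      · have hb : π a ≠ π b := fun e => hab (π.injective e)
        rw [Matrix.transpose_apply, Matrix.map_apply]; simp [M, hab, hb]
    · intro k _ hk; rw [Matrix.transpose_apply, Matrix.map_apply]; simp [M, hk]
    · simp
  let g : Cfsg.SU 4 F 3 := ⟨⟨M, hMdet⟩, (mem_SU_iff_matrix hσ _).2 hMu⟩
  have hconj : ∀ (y : Cfsg.SU 4 F 3) (d : Fin 4 → F), y.1.1 = diagonal d → (g⁻¹ * y * g).1.1 = diagonal (fun k => d (π k)) := by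
    intro y d e
    have h1 : y.1.1 * g.1.1 = g.1.1 * diagonal (fun k => d (π k)) := by
      rw [e]
      ext a b
      rw [diagonal_mul, mul_diagonal]
      show d a * M a b = M a b * _
      by_cases hab : a = π b
      · rw [hab]; exact mul_comm _ _
      · rw [show M a b = 0 from if_neg hab, mul_zero, zero_mul]
    show g⁻¹.1.1 * y.1.1 * g.1.1 = _
    rw [mul_assoc, h1, ← mul_assoc, show g⁻¹.1.1 * g.1.1 = (g⁻¹ * g).1.1 from rfl, inv_mul_cancel]
    exact one_mul _
  refine ⟨h * g, ?_, ?_⟩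
  · rw [show (h * g)⁻¹ * z * (h * g) = g⁻¹ * (h⁻¹ * z * h) * g by group, hconj _ _ ez']
    congr 1
    funext k
    rw [show bs (π k) = (![(false, true), (false, false), (true, false), (true, true)] k).1 from congrArg Prod.fst (hπ k)]
    fin_cases k <;> simp [val]
  · rw [show (h * g)⁻¹ * w * (h * g) = g⁻¹ * (h⁻¹ * w * h) * g by group, hconj _ _ ew']
    congr 1
    funext k
    rw [show bt (π k) = (![(false, true), (false, false), (true, false), (true, true)] k).2 from congrArg Prod.snd (hπ k)]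
    fin_cases k <;> simp [val]

end CfsgLib.Phan.Q3
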