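import Cfsg.Agent.Lib.KnownB.Phan.Q3.Blocks
import Cfsg.Agent.Lib.KnownB.Phan.Q3.Eigen

/-!
# Three chained subgroups inside an image of the four-dimensional unitary group
-/

set_option autoImplicit false
set_option linter.unusedSectionVars false

open Matrix CfsgLib.Classical CfsgLib.SUPres

namespace CfsgLib.Phan.Q3

variable {F : Type*} [Field F] [Fintype F] {σ : F →+* F} {G : Type*} [Group G]
variable (hF : Fintype.card F = 3 ^ 2) (hσ : ∀ x, σ x = x ^ 3) (hc : IsConjugation σ)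
include hF hσ hc

theorem frame (g : Cfsg.SU 4 F 3 →* G) (hg : g.ker ≤ Subgroup.center (Cfsg.SU 4 F 3)) (Q : Quat F)
    {ιa ιb ιc : Cfsg.SU 2 F 3 →* G} (ha : ιa.range ≤ g.range) (hb : ιb.range ≤ g.range) (hc' : ιc.range ≤ g.range)
    (ia : Function.Injective ιa) (ib : Function.Injective ιb) (ic : Function.Injective ιc)
    (hab : ∀ y, ιa Q.m * ιb y * (ιa Q.m)⁻¹ = ιb (Q.i * y * Q.i⁻¹))
    (hba : ∀ y, ιb Q.m * ιa y * (ιb Q.m)⁻¹ = ιa (Q.i * y * Q.i⁻¹))
    (hac : ∀ x y, ιa x * ιc y = ιc y * ιa x) :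
    ∃ g' : Cfsg.SU 4 F 3 →* G, g'.range = g.range ∧ g'.ker ≤ Subgroup.center (Cfsg.SU 4 F 3) ∧
      (fixS F 3 ({0, 1} : Finset (Fin 4))).map g' = ιa.range ∧
      (fixS F 3 ({1, 2} : Finset (Fin 4))).map g' = ιb.range ∧
      (fixS F 3 ({2, 3} : Finset (Fin 4))).map g' = ιc.range := by
  classical
  obtain ⟨za, Za⟩ := exists_ZData hF hσ hc hg ha Q
  obtain ⟨zb, Zb⟩ := exists_ZData hF hσ hc hg hb Q
  -- the inner conjugation is non-trivial
  have hne : Q.i * Q.j * Q.i⁻¹ ≠ Q.j := fun e => by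
    have : Q.m = 1 := by rw [← Q.hij, e, mul_inv_cancel]
    have h := congrArg (fun y : Cfsg.SU 2 F 3 => y.1.1 0 0) this
    simp [Q.hm] at h
    exact two_ne hF (by linear_combination -h)
  have nc : ∀ (ι κ : Cfsg.SU 2 F 3 →* G), Function.Injective κ →
      (∀ y, ι Q.m * κ y * (ι Q.m)⁻¹ = κ (Q.i * y * Q.i⁻¹)) → ¬ Commute (ι Q.m) (κ Q.j) := fun ι κ hκ h hcm => by
    have := h Q.j
    rw [hcm.eq, mul_inv_cancel_right] at this
    exact hne (hκ this).symm
  -- they commute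
  have hzz : za * zb = zb * za := by
    obtain ⟨I, eI⟩ := hb ⟨Q.i, rfl⟩
    obtain ⟨J, eJ⟩ := hb ⟨Q.j, rfl⟩
    have ca : ∀ (x : Cfsg.SU 4 F 3) (y : Cfsg.SU 2 F 3), g x = ιb y →
        g (I⁻¹ * (za * x * za⁻¹) * I) = ιb y := fun x y e => by
      rw [map_mul, map_mul, map_mul, map_mul, map_inv, map_inv, eI, e, Za.map, hab, ← map_inv, ← map_mul, ← map_mul]
      congr 1
      group
    have e := Zb.lifts _ _ (ca I Q.i eI) (ca J Q.j eJ)
    have e' : I⁻¹ * (za * zb * za⁻¹) * I = zb := by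
      rw [show za * zb * za⁻¹ = za * (I * J * I⁻¹ * J⁻¹) * za⁻¹ by rw [Zb.lifts I J eI eJ]]
      refine Eq.trans ?_ e
      group
    have cI := (Zb.commI I eI).eq
    have e2 : za * zb * za⁻¹ = zb := by
      have := congrArg (fun x => I * x * I⁻¹) e'
      simp only [← cI, mul_inv_cancel_right] at this
      refine Eq.trans ?_ this
      group
    rw [mul_inv_eq_iff_eq_mul] at e2
    exact e2
  -- and are independent modulo scalars
  have cent : ∀ (k x : Cfsg.SU 4 F 3), (∃ c : F, k.1.1 = c • 1) → Commute (g k) (g x) := fun k x ⟨c, e⟩ => by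
    have := (Subgroup.mem_center_iff.1 (scalar_central hF hσ e) x).symm
    exact (show Commute k x from this).map g
  have hzs : ∀ c : F, za.1.1 ≠ c • 1 := fun c e => nc ιa ιb ib hab (by
    obtain ⟨J, eJ⟩ := hb ⟨Q.j, rfl⟩
    rw [← Za.map, ← eJ]
    exact cent za J ⟨c, e⟩)
  have hws : ∀ c : F, zb.1.1 ≠ c • 1 := fun c e => nc ιb ιa ia hba (by
    obtain ⟨J, eJ⟩ := ha ⟨Q.j, rfl⟩
    rw [← Zb.map, ← eJ]
    exact cent zb J ⟨c, e⟩)
  have hzw : ∀ c : F, za.1.1 ≠ c • zb.1.1 := fun c e => nc ιa ιb ib hab (by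
    obtain ⟨J, eJ⟩ := hb ⟨Q.j, rfl⟩
    have hk : ∃ d : F, (za * zb).1.1 = d • 1 := ⟨c, by
      show za.1.1 * zb.1.1 = _
      rw [e, Matrix.smul_mul, show zb.1.1 * zb.1.1 = (zb * zb).1.1 from rfl, Zb.sq]
      rfl⟩
    have h1 := cent (za * zb) J hk
    have h2 : Commute (g zb) (g J) := (Zb.commJ J eJ).map g
    have := h1.mul_left h2
    rwa [← map_mul, mul_assoc, Zb.sq, mul_one, Za.map, eJ] at this)
  obtain ⟨h, ea, eb⟩ := exists_frame hF hσ hc Za.sq Zb.sq hzz hzs hws hzw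
  let e : Cfsg.SU 4 F 3 ≃* Cfsg.SU 4 F 3 := MulAut.conj h
  set g' := g.comp e.toMonoidHom with hg'
  have hrange : g'.range = g.range := by
    rw [hg', MonoidHom.range_comp, MonoidHom.range_eq_top.2 e.surjective, ← MonoidHom.range_eq_map]
  have hker : g'.ker ≤ Subgroup.center (Cfsg.SU 4 F 3) := fun x hx => Subgroup.mem_center_iff.2 fun y => e.injective (by
    rw [map_mul, map_mul]
    exact Subgroup.mem_center_iff.1 (hg hx) _)
  have hsymm : ∀ x, e.symm x = h⁻¹ * x * h := fun x => e.injective (by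
    rw [e.apply_symm_apply]
    show x = h * (h⁻¹ * x * h) * h⁻¹
    group)
  have Za' := Za.comp e
  have Zb' := Zb.comp e
  rw [hsymm] at Za' Zb'
  rw [← hrange] at ha hb hc'
  set wa := h⁻¹ * za * h
  set wb := h⁻¹ * zb * h
  have h1 : (1 : F) ≠ -1 := fun e => two_ne hF (by linear_combination e)
  have hA : ∀ t, t ^ 3 = 1 → g' t ∈ ιa.range → t ∈ fixS F 3 ({0, 1} : Finset (Fin 4)) := fun t ht htr => by
    have := block_trivial hF hσ hc hker ha Q (a := 2) (b := 3) (by decide) Za' ea (by simp) (by simp)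
      (fun k h2 h3 => by fin_cases k <;> simp_all) eb (by simpa using h1.symm)
      (fun y => by rw [Zb'.map]; exact hba y) ht htr
    rwa [show ({2, 3} : Finset (Fin 4))ᶜ = {0, 1} by decide] at this
  have hB : ∀ t, t ^ 3 = 1 → g' t ∈ ιb.range → t ∈ fixS F 3 ({1, 2} : Finset (Fin 4)) := fun t ht htr => by
    have := block_trivial hF hσ hc hker hb Q (a := 0) (b := 3) (by decide) Zb' eb (by simp) (by simp)
      (fun k h2 h3 => by fin_cases k <;> simp_all) ea (by simpa using h1.symm)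
      (fun y => by rw [Za'.map]; exact hab y) ht htr
    rwa [show ({0, 3} : Finset (Fin 4))ᶜ = {1, 2} by decide] at this
  let f01 : Fin 2 ↪ Fin 4 := ⟨![0, 1], by decide⟩
  let f12 : Fin 2 ↪ Fin 4 := ⟨![1, 2], by decide⟩
  let f23 : Fin 2 ↪ Fin 4 := ⟨![2, 3], by decide⟩
  have hmA := map_eq_range hF hσ hc hker ha ia (S := {0, 1}) f01 (by decide) hA
  have hC : ∀ t, t ^ 3 = 1 → g' t ∈ ιc.range → t ∈ fixS F 3 ({2, 3} : Finset (Fin 4)) := fun t ht htr => by
    obtain ⟨y, hy⟩ := htr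
    -- the negative of the first involution
    let nz : Cfsg.SU 4 F 3 := ⟨⟨diagonal ![1, 1, -1, -1], by simp [det_diagonal, Fin.prod_univ_four]⟩,
      (mem_SU_iff_matrix hσ _).2 (by
        rw [diagonal_map (map_zero σ), diagonal_transpose, diagonal_mul_diagonal, ← diagonal_one]
        congr 1
        funext k
        fin_cases k <;> simp)⟩
    have hwt : Commute wa t := comm_exact hF hσ hc hker ht (by
      rw [Za'.map, ← hy]
      exact hac Q.m y)
    have hnz : Commute nz t := Subtype.ext (Subtype.ext (by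
      have e' : nz.1.1 = -wa.1.1 := by
        show diagonal ![1, 1, -1, -1] = -wa.1.1
        rw [ea, diagonal_neg]
        congr 1
        funext k
        fin_cases k <;> simp
      show nz.1.1 * t.1.1 = t.1.1 * nz.1.1
      have h2 : wa.1.1 * t.1.1 = t.1.1 * wa.1.1 := congrArg (fun z : Cfsg.SU 4 F 3 => z.1.1) hwt.eq
      rw [e', neg_mul, mul_neg, h2]))
    have := block_of_centraliser hF hσ hc hker hc' (a := 0) (b := 1) (by decide) (z := nz) rfl (by simp) (by simp)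
      (fun k h2 h3 => by fin_cases k <;> simp_all) hnz ht (fun x hx => comm_exact hF hσ hc hker ht (by
        obtain ⟨y', hy'⟩ : g' x ∈ ιa.range := hmA ▸ ⟨x, hx, rfl⟩
        rw [← hy', ← hy]
        exact hac y' y))
    rwa [show ({0, 1} : Finset (Fin 4))ᶜ = {2, 3} by decide] at this
  exact ⟨g', hrange, hker, hmA, map_eq_range hF hσ hc hker hb ib (S := {1, 2}) f12 (by decide) hB,
    map_eq_range hF hσ hc hker hc' ic (S := {2, 3}) f23 (by decide) hC⟩

end CfsgLib.Phan.Q3
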