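import Cfsg.Agent.Lib.KnownB.Phan.Q3.Rank1
import Cfsg.Agent.Lib.KnownB.Phan.Pair
import Cfsg.Agent.S0283

/-!
# Lifts of subgroups along a homomorphism from the four-dimensional unitary group with central kernel
-/

set_option autoImplicit false
set_option linter.unusedSectionVars false

open Matrix CfsgLib.Classical CfsgLib.SUPres
open scoped commutatorElement

namespace CfsgLib.Phan.Q3

variable {F : Type*} [Field F] [Fintype F] {σ : F →+* F} {G : Type*} [Group G]

/-- The elements of a two-dimensional unitary group used in the analysis. -/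
structure Quat (F : Type*) [Field F] where
  m : Cfsg.SU 2 F 3
  i : Cfsg.SU 2 F 3
  j : Cfsg.SU 2 F 3
  u : Cfsg.SU 2 F 3
  v : Cfsg.SU 2 F 3
  hm : m.1.1 = -1
  hij : i * j * i⁻¹ * j⁻¹ = m
  hii : i * i = m
  hjj : j * j = m
  hu : u * i = j * u
  hv : v * i = (i * j) * v
  hi01 : i.1.1 0 1 = 0
  hi : i.1.1 0 0 ≠ i.1.1 1 1
  hj00 : j.1.1 0 0 = 0
  hj01 : j.1.1 0 1 = 1

theorem exists_Quat (hF : Fintype.card F = 3 ^ 2) (hσ : ∀ x, σ x = x ^ 3) (hc : IsConjugation σ) :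
    Nonempty (Quat F) := by
  obtain ⟨m, i, j, u, v, h1, h2, h3, h4, h5, h6, h7, h8, h9, h10⟩ := exists_quat hF hσ hc
  exact ⟨⟨m, i, j, u, v, h1, h2, h3, h4, h5, h6, h7, h8, h9, h10⟩⟩

theorem Quat.m_comm (Q : Quat F) (y : Cfsg.SU 2 F 3) : Q.m * y = y * Q.m :=
  Subtype.ext (Subtype.ext (by
    show Q.m.1.1 * y.1.1 = y.1.1 * Q.m.1.1
    rw [Q.hm, neg_mul, mul_neg, one_mul, mul_one]))

/-- The commutator of lifts of the two generators of the quaternion subgroup, with its properties. -/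
structure ZData (g : Cfsg.SU 4 F 3 →* G) (ι : Cfsg.SU 2 F 3 →* G) (Q : Quat F) (z : Cfsg.SU 4 F 3) : Prop where
  lifts : ∀ a b, g a = ι Q.i → g b = ι Q.j → a * b * a⁻¹ * b⁻¹ = z
  sq : z * z = 1
  map : g z = ι Q.m
  commI : ∀ a, g a = ι Q.i → Commute z a
  commJ : ∀ b, g b = ι Q.j → Commute z b
  commT : ∀ t, t ^ 3 = 1 → g t ∈ ι.range → Commute z t

theorem ZData.comp {g : Cfsg.SU 4 F 3 →* G} {ι : Cfsg.SU 2 F 3 →* G} {Q : Quat F} {z : Cfsg.SU 4 F 3}
    (Z : ZData g ι Q z) (e : Cfsg.SU 4 F 3 ≃* Cfsg.SU 4 F 3) : ZData (g.comp e.toMonoidHom) ι Q (e.symm z) := by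
  refine ⟨fun a b ha hb => e.injective ?_, ?_, ?_, fun a ha => ?_, fun b hb => ?_, fun t ht h => ?_⟩
  · rw [map_mul, map_mul, map_mul, map_inv, map_inv, e.apply_symm_apply]
    exact Z.lifts _ _ ha hb
  · rw [← map_mul, Z.sq, map_one]
  · show g (e (e.symm z)) = _
    rw [e.apply_symm_apply, Z.map]
  · have := (Z.commI (e a) ha).map e.symm
    rwa [e.symm_apply_apply] at this
  · have := (Z.commJ (e b) hb).map e.symm
    rwa [e.symm_apply_apply] at this
  · have := (Z.commT (e t) (by rw [← map_pow, ht, map_one]) h).map e.symm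
    rwa [e.symm_apply_apply] at this

variable (hF : Fintype.card F = 3 ^ 2) (hσ : ∀ x, σ x = x ^ 3) (hc : IsConjugation σ)
include hF hσ hc

/-- A non-trivial homomorphism has central kernel. -/
theorem ker_central (g : Cfsg.SU 4 F 3 →* G) {x : Cfsg.SU 4 F 3} (hx : g x ≠ 1) :
    g.ker ≤ Subgroup.center (Cfsg.SU 4 F 3) := by
  have hsimple : IsSimpleGroup (Cfsg.PSU 4 F 3) := Cfsg.Agent.S0283.result hF 4 (by norm_num) (by norm_num)
  have hperf : commutator (Cfsg.SU 4 F 3) = ⊤ := by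
    have h := (stdHerm_isHermitian hc 4).sIsom_perfect (stdHerm_sepRight (σ := σ) 4)
      (Or.inr (by rw [Module.finrank_fin_fun]))
    have h2 := congrArg (Subgroup.map (suEquiv (n := 4) hσ).symm.toMonoidHom) h
    rwa [map_commutator_eq, Subgroup.map_top_of_surjective _ (suEquiv (n := 4) hσ).symm.surjective,
      MonoidHom.range_eq_top.2 (suEquiv (n := 4) hσ).symm.surjective] at h2
  haveI : (g.ker.map (QuotientGroup.mk' (Subgroup.center (Cfsg.SU 4 F 3)))).Normal :=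
    Subgroup.Normal.map inferInstance _ (QuotientGroup.mk'_surjective _)
  rcases hsimple.eq_bot_or_eq_top_of_normal _ ‹_› with h | h
  · intro y hy
    have : QuotientGroup.mk' (Subgroup.center (Cfsg.SU 4 F 3)) y ∈ (⊥ : Subgroup _) := h ▸ Subgroup.mem_map_of_mem _ hy
    exact (QuotientGroup.eq_one_iff y).1 (Subgroup.mem_bot.1 this)
  · exfalso
    have hcomm : ∀ a b : Cfsg.SU 4 F 3, g (⁅a, b⁆) = 1 := fun a b => by
      have get : ∀ a : Cfsg.SU 4 F 3, ∃ k ∈ g.ker, ∃ z ∈ Subgroup.center (Cfsg.SU 4 F 3), a = k * z := fun a => by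
        obtain ⟨k, hk, e⟩ := (h ▸ Subgroup.mem_top _ :
          QuotientGroup.mk' _ a ∈ g.ker.map (QuotientGroup.mk' (Subgroup.center (Cfsg.SU 4 F 3))))
        exact ⟨k, hk, k⁻¹ * a, QuotientGroup.eq.1 e, by rw [mul_inv_cancel_left]⟩
      obtain ⟨k, hk, z, hz, rfl⟩ := get a
      rw [MonoidHom.mem_ker] at hk
      have hzb := congrArg g (Subgroup.mem_center_iff.1 hz b)
      rw [map_mul, map_mul] at hzb
      rw [map_commutatorElement, map_mul, hk, one_mul, commutatorElement_def, ← hzb]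
      group
    have : commutator (Cfsg.SU 4 F 3) ≤ g.ker := Subgroup.commutator_le.2 fun a _ b _ => hcomm a b
    rw [hperf] at this
    exact hx (this (Subgroup.mem_top x))

theorem central_scalar {z : Cfsg.SU 4 F 3} (hz : z ∈ Subgroup.center (Cfsg.SU 4 F 3)) :
    ∃ c : F, z.1.1 = c • 1 ∧ c ^ 4 = 1 ∧ z ^ 4 = 1 := by
  obtain ⟨c, e⟩ := center_scalar hσ (q := 3) hF (by norm_num) hz
  have hdet := z.1.2
  rw [e, det_smul, det_one, mul_one, Fintype.card_fin] at hdet
  refine ⟨c, e, hdet, Subtype.ext (Subtype.ext ?_)⟩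
  show (z.1 ^ 4).1 = 1
  rw [Matrix.SpecialLinearGroup.coe_pow, e, smul_pow, one_pow, hdet, one_smul]

omit hc in
theorem scalar_central {z : Cfsg.SU 4 F 3} {c : F} (e : z.1.1 = c • 1) : z ∈ Subgroup.center (Cfsg.SU 4 F 3) :=
  Subgroup.mem_center_iff.2 fun x => Subtype.ext (Subtype.ext (by
    show x.1.1 * z.1.1 = z.1.1 * x.1.1
    rw [e, Matrix.mul_smul, Matrix.smul_mul, mul_one, one_mul]))

variable {g : Cfsg.SU 4 F 3 →* G} (hg : g.ker ≤ Subgroup.center (Cfsg.SU 4 F 3))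
include hg

theorem diff_central {a b : Cfsg.SU 4 F 3} (e : g a = g b) : ∃ k ∈ Subgroup.center (Cfsg.SU 4 F 3), a = b * k :=
  ⟨b⁻¹ * a, hg (by rw [MonoidHom.mem_ker, map_mul, map_inv, e, inv_mul_cancel]), by rw [mul_inv_cancel_left]⟩

/-- Commuting images of elements, one of order three, come from commuting elements. -/
theorem comm_exact {a b : Cfsg.SU 4 F 3} (hb : b ^ 3 = 1) (h : Commute (g a) (g b)) : Commute a b := by
  obtain ⟨k, hk, e⟩ := diff_central hF hσ hc hg (show g (a * b * a⁻¹) = g b by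
    rw [map_mul, map_mul, map_inv, h.eq, mul_inv_cancel_right])
  obtain ⟨c, -, -, hk4⟩ := central_scalar hF hσ hc hk
  have hk3 : k ^ 3 = 1 := by
    have h3 : (a * b * a⁻¹) ^ 3 = 1 := by rw [conj_pow, hb, mul_one, mul_inv_cancel]
    rw [e, Commute.mul_pow (Subgroup.mem_center_iff.1 hk b), hb, one_mul] at h3
    exact h3
  rw [pow_succ, hk3, one_mul] at hk4
  rw [hk4, mul_one, mul_inv_eq_iff_eq_mul] at e
  exact e

/-- Elements of order three have lifts of order three. -/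
theorem lift_three {y : G} (hy : y ^ 3 = 1) (hr : y ∈ g.range) : ∃ x, g x = y ∧ x ^ 3 = 1 := by
  obtain ⟨x, rfl⟩ := hr
  have hk : x ^ 3 ∈ g.ker := by rw [MonoidHom.mem_ker, map_pow, hy]
  obtain ⟨-, -, -, h4⟩ := central_scalar hF hσ hc (hg hk)
  refine ⟨x * x ^ 3, by rw [map_mul, MonoidHom.mem_ker.1 hk, mul_one], ?_⟩
  rw [show x * x ^ 3 = x ^ 4 from (pow_succ' x 3).symm, ← pow_mul, show 4 * 3 = 3 * 4 from rfl, pow_mul, h4]

variable {ι : Cfsg.SU 2 F 3 →* G} (hι : ι.range ≤ g.range)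
include hι

omit hg in
/-- A property closed under products holds for some lift of every element if it holds for those of order three. -/
theorem lift_all (P : Subgroup (Cfsg.SU 4 F 3)) (h : ∀ t, t ^ 3 = 1 → g t ∈ ι.range → t ∈ P)
    (hg : g.ker ≤ Subgroup.center (Cfsg.SU 4 F 3)) (y : Cfsg.SU 2 F 3) : ∃ x ∈ P, g x = ι y := by
  have hall : (P.map g).comap ι = ⊤ := gen_three hF hσ hc _ fun t ht => by
    have h1 : (ι t) ^ 3 = 1 := by rw [← map_pow, ht, map_one]
    obtain ⟨x, ex, hx⟩ := lift_three hF hσ hc hg h1 (hι ⟨t, rfl⟩)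
    exact Subgroup.mem_comap.2 ⟨x, h x hx (ex ▸ ⟨t, rfl⟩), ex⟩
  obtain ⟨x, hx, e⟩ := Subgroup.mem_comap.1 (hall ▸ Subgroup.mem_top y)
  exact ⟨x, hx, e⟩

/-- The commutator of lifts exists. -/
theorem exists_ZData (Q : Quat F) : ∃ z, ZData g ι Q z := by
  obtain ⟨a, ha⟩ := hι ⟨Q.i, rfl⟩
  obtain ⟨b, hb⟩ := hι ⟨Q.j, rfl⟩
  have hz : g (a * b * a⁻¹ * b⁻¹) = ι Q.m := by
    rw [map_mul, map_mul, map_mul, map_inv, map_inv, ha, hb, ← Q.hij, map_mul ι, map_mul ι, map_mul ι, map_inv ι, map_inv ι]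
  set z := a * b * a⁻¹ * b⁻¹ with hz'
  have sqrt : ∀ x y, g x = ι y → y * y = Q.m → Commute z x := fun x y hx hy => by
    obtain ⟨k, hk, e⟩ := diff_central hF hσ hc hg (show g (x * x) = g z by rw [map_mul, hx, hz, ← map_mul, hy])
    have e' : z = x * x * k⁻¹ := by rw [e, mul_inv_cancel_right]
    rw [e']
    exact ((Commute.refl x).mul_left (Commute.refl x)).mul_left (show Commute k x from (Subgroup.mem_center_iff.1 hk x).symm).inv_left
  have cI := fun x hx => sqrt x Q.i hx Q.hii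
  have cJ := fun x hx => sqrt x Q.j hx Q.hjj
  refine ⟨z, fun a' b' ha' hb' => ?_, ?_, hz, cI, cJ, fun t ht hr => ?_⟩
  · obtain ⟨k, hk, rfl⟩ := diff_central hF hσ hc hg (ha'.trans ha.symm)
    obtain ⟨l, hl, rfl⟩ := diff_central hF hσ hc hg (hb'.trans hb.symm)
    have ck : ∀ x, k * x = x * k := fun x => (Subgroup.mem_center_iff.1 hk x).symm
    have cl : ∀ x, l * x = x * l := fun x => (Subgroup.mem_center_iff.1 hl x).symm
    calc a * k * (b * l) * (a * k)⁻¹ * (b * l)⁻¹ = a * (k * b) * l * k⁻¹ * a⁻¹ * l⁻¹ * b⁻¹ := by group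
      _ = a * b * (k * l) * k⁻¹ * a⁻¹ * l⁻¹ * b⁻¹ := by rw [ck b]; group
      _ = a * b * (l * a⁻¹) * l⁻¹ * b⁻¹ := by rw [ck l]; group
      _ = z := by rw [cl a⁻¹, hz']; group
  · have eab : a * b = z * (b * a) := by rw [hz']; group
    have zb := cJ b hb
    obtain ⟨k, hk, ek⟩ := diff_central hF hσ hc hg (show g (b * b) = g z by rw [map_mul, hb, hz, ← map_mul, Q.hjj])
    have cbb : Commute a (b * b) := by
      rw [ek]
      exact (cI a ha).symm.mul_right (Subgroup.mem_center_iff.1 hk a)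
    have e2 : a * (b * b) = z * z * ((b * b) * a) := by
      calc a * (b * b) = (a * b) * b := (mul_assoc _ _ _).symm
        _ = z * (b * a) * b := by rw [eab]
        _ = z * (b * (a * b)) := by simp only [mul_assoc]
        _ = z * (b * (z * (b * a))) := by rw [eab]
        _ = z * z * ((b * b) * a) := by rw [← mul_assoc b z, ← zb.eq]; simp only [mul_assoc]
    rw [cbb.eq] at e2
    exact mul_eq_right.1 e2.symm
  · refine comm_exact hF hσ hc hg ht ?_
    obtain ⟨y, hy⟩ := hr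
    rw [hz, ← hy]
    show ι Q.m * ι y = ι y * ι Q.m
    rw [← map_mul, ← map_mul, Q.m_comm]

end CfsgLib.Phan.Q3
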