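import Cfsg.Agent.Lib.KnownB.Phan.AutSU2
import Mathlib.NumberTheory.LegendreSymbol.Basic

/-!
# The two-dimensional unitary group over the field with nine elements
-/

set_option autoImplicit false
set_option linter.unusedSectionVars false

open Matrix CfsgLib.Classical CfsgLib.SUPres

namespace CfsgLib.Phan.Q3

/-- A matrix commuting with a non-scalar two by two matrix is a combination of it and the identity. -/
theorem commutant_two {F : Type*} [Field F] {X Y : Matrix (Fin 2) (Fin 2) F} (hX : ∀ c : F, X ≠ c • 1)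
    (h : X * Y = Y * X) : ∃ a b : F, Y = a • X + b • 1 := by
  have e00 := congrFun (congrFun h 0) 0
  have e01 := congrFun (congrFun h 0) 1
  have e10 := congrFun (congrFun h 1) 0
  simp [Matrix.mul_apply, Fin.sum_univ_two] at e00 e01 e10
  by_cases h01 : X 0 1 = 0
  · by_cases h10 : X 1 0 = 0
    · have hne : X 0 0 - X 1 1 ≠ 0 := fun e => hX (X 0 0) (by
        ext i j
        fin_cases i <;> fin_cases j <;> simp [h01, h10]
        linear_combination -e)
      have y01 : Y 0 1 = 0 := mul_left_cancel₀ hne (by rw [h01] at e01; linear_combination e01)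
      have y10 : Y 1 0 = 0 := mul_left_cancel₀ hne (by rw [h10] at e10; linear_combination -e10)
      refine ⟨(Y 0 0 - Y 1 1) / (X 0 0 - X 1 1), Y 1 1 - (Y 0 0 - Y 1 1) / (X 0 0 - X 1 1) * X 1 1, ?_⟩
      ext i j
      fin_cases i <;> fin_cases j <;> simp [h01, h10, y01, y10]
      field_simp
      ring
    · refine ⟨Y 1 0 / X 1 0, Y 0 0 - Y 1 0 / X 1 0 * X 0 0, ?_⟩
      have y01 : Y 0 1 = 0 := mul_right_cancel₀ h10 (by rw [h01] at e00; linear_combination -e00)
      ext i j
      fin_cases i <;> fin_cases j <;> simp [h01, y01, h10]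
      field_simp
      linear_combination -e10
  · refine ⟨Y 0 1 / X 0 1, Y 0 0 - Y 0 1 / X 0 1 * X 0 0, ?_⟩
    ext i j
    fin_cases i <;> fin_cases j <;> simp [h01]
    · field_simp
      linear_combination e00
    · field_simp
      linear_combination e01

variable {F : Type*} [Field F] [Fintype F] (hF : Fintype.card F = 3 ^ 2)
include hF

theorem char_three : (3 : F) = 0 := by
  obtain ⟨p, hp⟩ := CharP.exists F
  obtain ⟨m, hm, e⟩ := FiniteField.card F p
  rw [hF] at e
  obtain rfl : p = 3 := (Nat.prime_dvd_prime_iff_eq hm Nat.prime_three).1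
    (hm.dvd_of_dvd_pow (e ▸ dvd_pow_self p m.ne_zero))
  exact_mod_cast CharP.cast_eq_zero F 3

theorem two_ne : (2 : F) ≠ 0 := fun h => one_ne_zero (show (1 : F) = 0 by linear_combination char_three hF - h)

theorem eq_one_of_cube {x : F} (h : x ^ 3 = 1) : x = 1 := by
  have : (x - 1) ^ 3 = 0 := by linear_combination h + (-x ^ 2 + x) * char_three hF
  exact sub_eq_zero.1 (eq_zero_of_pow_eq_zero this)

theorem exists_theta : ∃ θ : F, θ * θ = -1 := by
  obtain ⟨θ, h⟩ : IsSquare (-1 : F) := FiniteField.isSquare_neg_one_iff.2 (by rw [hF]; norm_num)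
  exact ⟨θ, h.symm⟩

variable {σ : F →+* F} (hσ : ∀ x, σ x = x ^ 3) (hc : IsConjugation σ)
include hσ hc

/-- The elements used to analyse the group: two generators of the quaternion subgroup, with conjugating elements. -/
theorem exists_quat : ∃ m i j u v : Cfsg.SU 2 F 3,
    m.1.1 = -1 ∧ i * j * i⁻¹ * j⁻¹ = m ∧ i * i = m ∧ j * j = m ∧ u * i = j * u ∧ v * i = (i * j) * v ∧
      i.1.1 0 1 = 0 ∧ i.1.1 0 0 ≠ i.1.1 1 1 ∧ j.1.1 0 0 = 0 ∧ j.1.1 0 1 = 1 := by
  obtain ⟨θ, hθ⟩ := exists_theta hF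
  have h3 := char_three hF
  have hσθ : σ θ = -θ := by rw [hσ]; linear_combination θ * hθ
  obtain ⟨a, ha⟩ := hc.exists_norm_eq (show σ (-1) = -1 by simp)
  obtain ⟨m, m0, m1⟩ := su2_mk (q := 3) hσ hc (a := -1) (b := 0) (by simp)
  obtain ⟨i, i0, i1⟩ := su2_mk (q := 3) hσ hc (a := θ) (b := 0) (by rw [hσθ, map_zero]; linear_combination -hθ)
  obtain ⟨j, j0, j1⟩ := su2_mk (q := 3) hσ hc (a := 0) (b := 1) (by simp)
  obtain ⟨u, u0, u1⟩ := su2_mk (q := 3) hσ hc (a := a) (b := σ a * θ) (by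
    rw [map_mul, hc.invol, hσθ]
    linear_combination (2 : F) * ha - (a * σ a) * hθ - h3)
  obtain ⟨v, v0, v1⟩ := su2_mk (q := 3) hσ hc (a := a) (b := -σ a) (by
    rw [map_neg, hc.invol]
    linear_combination (2 : F) * ha - h3)
  obtain ⟨mr, mc⟩ := su2_row hσ m
  obtain ⟨ir, ic⟩ := su2_row hσ i
  obtain ⟨jr, jc⟩ := su2_row hσ j
  obtain ⟨ur, uc⟩ := su2_row hσ u
  obtain ⟨vr, vc⟩ := su2_row hσ v
  rw [m0] at mr; rw [m1] at mc; rw [i0, hσθ] at ir; rw [i1] at ic; rw [j0] at jr; rw [j1] at jc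
  rw [u0] at ur; rw [u1, map_mul, hc.invol, hσθ] at uc; rw [v0] at vr; rw [v1, map_neg, hc.invol] at vc
  simp only [map_zero, map_one, map_neg, neg_zero, neg_neg] at mr mc ic jr jc vc
  have e : ∀ x y : Cfsg.SU 2 F 3, (∀ r s, x.1.1 r s = y.1.1 r s) → x = y :=
    fun x y h => Subtype.ext (Subtype.ext (Matrix.ext h))
  have hmul : ∀ x y : Cfsg.SU 2 F 3, (x * y).1.1 = x.1.1 * y.1.1 := fun x y => rfl
  refine ⟨m, i, j, u, v, ?_, ?_, ?_, ?_, ?_, ?_, i1, ?_, j0, j1⟩
  · ext r s
    fin_cases r <;> fin_cases s <;> simp [m0, m1, mr, mc]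
  · rw [mul_inv_eq_iff_eq_mul, mul_inv_eq_iff_eq_mul]
    refine e _ _ fun r s => ?_
    fin_cases r <;> fin_cases s <;> simp [hmul, Matrix.mul_apply, Fin.sum_univ_two, m0, m1, mr, mc, i0, i1, ir, ic, j0, j1, jr, jc]
  · refine e _ _ fun r s => ?_
    fin_cases r <;> fin_cases s <;> simp [hmul, Matrix.mul_apply, Fin.sum_univ_two, m0, m1, mr, mc, i0, i1, ir, ic, hθ]
  · refine e _ _ fun r s => ?_
    fin_cases r <;> fin_cases s <;> simp [hmul, Matrix.mul_apply, Fin.sum_univ_two, m0, m1, mr, mc, j0, j1, jr, jc]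
  · refine e _ _ fun r s => ?_
    fin_cases r <;> fin_cases s <;>
      simp [hmul, Matrix.mul_apply, Fin.sum_univ_two, i0, i1, ir, ic, j0, j1, jr, jc, u0, u1, ur, uc] <;>
      first | ring1 | linear_combination σ a * hθ | linear_combination -(σ a) * hθ |
        linear_combination a * hθ | linear_combination -a * hθ
  · refine e _ _ fun r s => ?_
    fin_cases r <;> fin_cases s <;>
      simp [hmul, Matrix.mul_apply, Fin.sum_univ_two, i0, i1, ir, ic, j0, j1, jr, jc, v0, v1, vr, vc] <;> ring1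
  · rw [i0, ir]
    intro h
    have : θ * 2 = 0 := by linear_combination h
    rcases mul_eq_zero.1 this with h' | h'
    · simp [h'] at hθ
    · exact two_ne hF h'

/-- The group is generated by its elements of order three. -/
theorem gen_three (H : Subgroup (Cfsg.SU 2 F 3)) (h : ∀ t : Cfsg.SU 2 F 3, t ^ 3 = 1 → t ∈ H) : H = ⊤ := by
  classical
  obtain ⟨C, hto, hfrom⟩ := exists_conjC (q := 3) hσ hc
  choose φf hφ using hto
  have φmul : ∀ X X', φf (X * X') = φf X * φf X' := fun X X' => Subtype.ext (Subtype.ext (by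
    show (φf (X * X')).1.1 = (φf X).1.1 * (φf X').1.1
    rw [hφ, hφ, hφ, show (X * X').1 = X.1 * X'.1 from rfl, Matrix.map_mul, Matrix.mul_assoc _ (C⁻¹).1,
      Matrix.mul_assoc C.1 (X'.1.map _), Units.inv_mul_cancel_left]
    simp only [Matrix.mul_assoc]))
  let φ : SpecialLinearGroup (Fin 2) (fixK σ) →* Cfsg.SU 2 F 3 := MonoidHom.mk' φf φmul
  have hall : H.comap φ = ⊤ := sl_subgroup_eq_top _ fun r s hrs c => by
    refine Subgroup.mem_comap.2 (h _ ?_)
    rw [← map_pow, show SpecialLinearGroup.transvection hrs c ^ 3 = 1 from ?_, map_one]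
    refine Subtype.ext ?_
    show _ = (1 : Matrix (Fin 2) (Fin 2) (fixK σ))
    rw [pow_succ, pow_two]
    show Matrix.transvection r s c * Matrix.transvection r s c * Matrix.transvection r s c = 1
    rw [Matrix.transvection_mul_transvection_same _ _ hrs, Matrix.transvection_mul_transvection_same _ _ hrs,
      show c + c + c = 0 by
        refine Subtype.ext ?_
        push_cast
        linear_combination (c : F) * char_three hF, Matrix.transvection_zero]
  refine eq_top_iff.2 fun Y _ => ?_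
  obtain ⟨X, eX⟩ := hfrom Y
  have : Y = φ X := Subtype.ext (Subtype.ext (eX.trans (hφ X).symm))
  exact this ▸ Subgroup.mem_comap.1 (hall ▸ Subgroup.mem_top X)

end CfsgLib.Phan.Q3
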